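import Cfsg.Agent.Lib.S3298.LocalX.Three

/-!
S3298: the local data from an embedding of eight or nine points with the facts on the centraliser of the four-group.
-/

set_option autoImplicit false

namespace Cfsg.Agent.S3298Lib

open Subgroup SylClasses S3298Fus

variable {G : Type*} [Group G] [Finite G] {d : Dat G}

/-- The local data from steps one to three. -/
theorem local_of_psi (hd : ∀ a, d.Fused a ↔ a * a = 1 ∧ Dat.P27 a.1) {full : Bool} (ψ : ↥(H45 full) →* G)
    (hinj : Function.Injective ψ) (agree : ∀ a : ↥W0, ∀ h : std a ∈ H45 full, ψ ⟨std a, h⟩ = d.emb a)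
    (comm_a : ∀ g, ψ g * d.emb a45 = d.emb a45 * ψ g) (comm_b : ∀ g, ψ g * d.emb b45 = d.emb b45 * ψ g)
    (hCVle : CV d ≤ ψ.range ⊔ closure ({d.emb a45, d.emb b45} : Set G))
    (hodd : Odd ((centralizer ({d.t} : Set G)).relIndex (CV d)))
    (hcls : ∀ a : ↥W0, a * a45 = a45 * a → a * b45 = b45 * a → a * a = 1 → Dat.P27 a.1 →
      ¬Dat.P27 (a * a45).1 → d.emb a ∈ Kset d) : Nonempty (Local d) :=
  ⟨{ full := full
     ψ := ψ
     inj := hinj
     agree := agree
     comm_a := comm_a
     comm_b := comm_b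
     three := fun g hg a ha => three_of_psi hd ψ agree comm_a comm_b hinj hCVle hodd hcls g hg a ha
     centX := cent_le_of_CV_le d hd hodd hcls
       (hCVle.trans (sup_le_sup_left ((closure_le _).2 (by
         rintro x (rfl | rfl)
         exacts [⟨a45, rfl⟩, ⟨b45, rfl⟩])) _)) le_sup_right }⟩

end Cfsg.Agent.S3298Lib
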