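import Cfsg.Agent.Lib.S3298.Finite.Outer
import Cfsg.Agent.Lib.S3298Sp.OddNorm
import Cfsg.Agent.Lib.McLTwoA8.Isolated

/-!
S3298, step 4 of the alternating branch: the centraliser of the short involution normalises the four-group.
The class of the central involution in the centraliser of the four-group is odd and characterised by fusion;
the two finite tables and the Z*-theorem do the rest.
-/

set_option autoImplicit false
set_option maxRecDepth 100000
set_option linter.unusedSectionVars false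

namespace Cfsg.Agent.S3298Lib

open Subgroup SylClasses S3298Fus

variable {G : Type*} [Group G] [Finite G] (d : Dat G)

/-- The centraliser of the four-group. -/
def CV : Subgroup G := centralizer ({d.emb a45, d.emb b45} : Set G)

/-- The class of the central involution under it. -/
def Kset : Set G := {u | ∃ h ∈ CV d, h * d.t * h⁻¹ = u}

theorem mem_CV {g : G} : g ∈ CV d ↔ g * d.emb a45 = d.emb a45 * g ∧ g * d.emb b45 = d.emb b45 * g := by
  rw [CV, mem_centralizer_iff]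
  constructor
  · intro h
    exact ⟨(h _ (Or.inl rfl)).symm, (h _ (Or.inr rfl)).symm⟩
  · rintro ⟨h1, h2⟩ x (rfl | rfl)
    exacts [h1.symm, h2.symm]

theorem CV_comm_c {g : G} (h : g ∈ CV d) : g * d.emb c45 = d.emb c45 * g := by
  obtain ⟨h1, h2⟩ := (mem_CV d).1 h
  rw [c45, map_mul, ← mul_assoc, h1, mul_assoc, h2, ← mul_assoc]

theorem emb_mem_CV {a : ↥W0} (hx : a * a45 = a45 * a) (hb : a * b45 = b45 * a) : d.emb a ∈ CV d :=
  (mem_CV d).2 ⟨by rw [← map_mul, hx, map_mul], by rw [← map_mul, hb, map_mul]⟩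

/-- An element of order two of the model. -/
def u45 : ↥W0 := pm0 (Equiv.swap 0 1 * Equiv.swap 2 3) * a45

theorem model_facts : a45 * a45 = 1 ∧ b45 * b45 = 1 ∧ a45 * b45 = b45 * a45 ∧ a45 ≠ 1 ∧ b45 ≠ 1 ∧ a45 ≠ b45 ∧
    b45 * c45 = a45 ∧ ¬Dat.P27 (b45 : ↥W0).1 ∧ ¬Dat.P27 (c45 : ↥W0).1 ∧ ¬Dat.P27 (a45 : ↥W0).1 ∧
    ¬Dat.P27 (z0 * a45).1 ∧ Dat.P27 (z0 : ↥W0).1 ∧
    u45 * u45 = 1 ∧ u45 * a45 = a45 * u45 ∧ u45 * b45 = b45 * u45 ∧ Dat.P27 u45.1 ∧ ¬Dat.P27 (u45 * a45).1 ∧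
    (z0 * a45 * u45) * (z0 * a45 * u45) = 1 ∧ (z0 * a45 * u45) * a45 = a45 * (z0 * a45 * u45) ∧
    (z0 * a45 * u45) * b45 = b45 * (z0 * a45 * u45) ∧ Dat.P27 (z0 * a45 * u45).1 ∧
    ¬Dat.P27 (z0 * a45 * u45 * a45).1 ∧ z0 ≠ u45 ∧ z0 ≠ u45 * a45 := by
  repeat' refine And.intro ?_ ?_
  all_goals decide +kernel

theorem conj_b_raw : ∀ p : Equiv.Perm (Fin 6), (4 ≤ (p 4).val ∧ 4 ≤ (p 5).val) →
    ∀ v : Fin 6 → ZMod 2, W.par (W.fl v) = 0 →
      (⟨v, p⟩ : W6) * b45.1 * (⟨v, p⟩ : W6)⁻¹ = b45.1 ∨ (⟨v, p⟩ : W6) * b45.1 * (⟨v, p⟩ : W6)⁻¹ = c45.1 := by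
  decide +kernel

theorem conj_b {a : ↥W0} (hx : a * a45 = a45 * a) : a * b45 * a⁻¹ = b45 ∨ a * b45 * a⁻¹ = c45 := by
  have h45 := comm_a45 hx
  rcases conj_b_raw a.1.p ⟨h45 4 (by decide), h45 5 (by decide)⟩ a.1.v
    (by simpa [W.par] using mem_W0.1 a.2) with h | h
  · exact Or.inl (Subtype.ext h)
  · exact Or.inr (Subtype.ext h)

theorem sq_comm_b {a : ↥W0} (hx : a * a45 = a45 * a) : a * a * b45 = b45 * (a * a) := by
  have e : a * a * b45 * (a * a)⁻¹ = b45 := by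
    rcases conj_b hx with h | h
    · rw [show a * a * b45 * (a * a)⁻¹ = a * (a * b45 * a⁻¹) * a⁻¹ by group, h, h]
    · have ha : a * a45 * a⁻¹ = a45 := by rw [hx, mul_inv_cancel_right]
      rw [show a * a * b45 * (a * a)⁻¹ = a * (a * b45 * a⁻¹) * a⁻¹ by group, h, c45,
        show a * (a45 * b45) * a⁻¹ = a * a45 * a⁻¹ * (a * b45 * a⁻¹) by group, ha, h, c45, ← mul_assoc,
        model_facts.1, one_mul]
  exact mul_inv_eq_iff_eq_mul.1 e

section

variable (hd : ∀ a, d.Fused a ↔ a * a = 1 ∧ Dat.P27 a.1)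
  (hodd : Odd ((centralizer ({d.t} : Set G)).relIndex (CV d)))
  (hcls : ∀ a : ↥W0, a * a45 = a45 * a → a * b45 = b45 * a → a * a = 1 → Dat.P27 a.1 → ¬Dat.P27 (a * a45).1 →
    d.emb a ∈ Kset d)

include hd

theorem not_conj_t {a : ↥W0} (h : ¬Dat.P27 a.1) (g : G) : g * d.t * g⁻¹ ≠ d.emb a :=
  fun e => h ((hd a).1 ⟨g, e⟩).2

theorem t_mem_CV : d.t ∈ CV d := emb_mem_CV d (z0_comm _).symm (z0_comm _).symm

theorem Kset_sub {u : G} (h : u ∈ Kset d) :
    u ∈ CV d ∧ u * u = 1 ∧ (∃ g, g * d.t * g⁻¹ = u) ∧ ∀ g, g * d.t * g⁻¹ ≠ u * d.emb a45 := by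
  obtain ⟨k, hk, rfl⟩ := h
  refine ⟨mul_mem (mul_mem hk (t_mem_CV d hd)) (inv_mem hk), ?_, ⟨k, rfl⟩, fun g e => ?_⟩
  · rw [show k * d.t * k⁻¹ * (k * d.t * k⁻¹) = k * (d.t * d.t) * k⁻¹ by group, d.t_sq, mul_one, mul_inv_cancel]
  · refine not_conj_t d hd (a := z0 * a45) model_facts.2.2.2.2.2.2.2.2.2.2.1 (k⁻¹ * g) ?_
    rw [show k⁻¹ * g * d.t * (k⁻¹ * g)⁻¹ = k⁻¹ * (g * d.t * g⁻¹) * k by group, e, map_mul]
    calc k⁻¹ * (k * d.t * k⁻¹ * d.emb a45) * k = d.t * k⁻¹ * (d.emb a45 * k) := by group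
      _ = _ := by rw [← ((mem_CV d).1 hk).1]; group

include hodd

/-- An involutive conjugation of the class has a fixed point. -/
theorem exists_fix {k : G} (hk : k * k = 1) (hKk : ∀ u ∈ Kset d, k * u * k⁻¹ ∈ Kset d) :
    ∃ h ∈ CV d, k * (h * d.t * h⁻¹) = (h * d.t * h⁻¹) * k := by
  classical
  have : Fintype ↥(Kset d) := Fintype.ofFinite _
  let C := (centralizer ({d.t} : Set G)).subgroupOf (CV d)
  let e : ↥(CV d) ⧸ C → ↥(Kset d) :=
    Quotient.lift (fun h => ⟨h.1 * d.t * h.1⁻¹, h.1, h.2, rfl⟩) fun a b hab => by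
      have hab' : a⁻¹ * b ∈ C := QuotientGroup.leftRel_apply.1 hab
      rw [mem_subgroupOf, mem_centralizer_singleton_iff] at hab'
      refine Subtype.ext ?_
      show a.1 * d.t * a.1⁻¹ = b.1 * d.t * b.1⁻¹
      have h1 : (a.1⁻¹ * b.1) * d.t = d.t * (a.1⁻¹ * b.1) := hab'
      calc a.1 * d.t * a.1⁻¹ = a.1 * (d.t * (a.1⁻¹ * b.1)) * b.1⁻¹ := by group
        _ = _ := by rw [← h1]; group
  have he : Function.Bijective e := by
    refine ⟨?_, ?_⟩
    · rintro ⟨a⟩ ⟨b⟩ hab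
      refine Quotient.sound (QuotientGroup.leftRel_apply.2 ?_)
      have hab' : a.1 * d.t * a.1⁻¹ = b.1 * d.t * b.1⁻¹ := congrArg Subtype.val hab
      rw [mem_subgroupOf, mem_centralizer_singleton_iff]
      show a.1⁻¹ * b.1 * d.t = d.t * (a.1⁻¹ * b.1)
      calc a.1⁻¹ * b.1 * d.t = a.1⁻¹ * (b.1 * d.t * b.1⁻¹) * b.1 := by group
        _ = _ := by rw [← hab']; group
    · rintro ⟨u, h, hh, rfl⟩
      exact ⟨Quotient.mk _ ⟨h, hh⟩, rfl⟩
  have hcard : Odd (Fintype.card ↥(Kset d)) := by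
    rw [← Nat.card_eq_fintype_card, ← Nat.card_congr (Equiv.ofBijective e he)]
    exact hodd
  let σ : Equiv.Perm ↥(Kset d) := Function.Involutive.toPerm (fun u => ⟨k * u.1 * k⁻¹, hKk _ u.2⟩)
    fun u => Subtype.ext (by
      show k * (k * u.1 * k⁻¹) * k⁻¹ = u.1
      rw [show k * (k * u.1 * k⁻¹) * k⁻¹ = k * k * u.1 * (k * k)⁻¹ by group, hk, one_mul, inv_one, mul_one])
  have : Fact (Nat.Prime 2) := ⟨Nat.prime_two⟩
  obtain ⟨u, hu⟩ := Equiv.Perm.exists_fixed_point_of_prime (p := 2) (n := 1)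
    (fun h => Nat.not_even_iff_odd.2 hcard (even_iff_two_dvd.2 h)) (σ := σ) (Equiv.ext fun u => by
      rw [pow_one, pow_two, Equiv.Perm.mul_apply, Equiv.Perm.one_apply]
      exact Subtype.ext (by
        show k * (k * u.1 * k⁻¹) * k⁻¹ = u.1
        rw [show k * (k * u.1 * k⁻¹) * k⁻¹ = k * k * u.1 * (k * k)⁻¹ by group, hk, one_mul, inv_one, mul_one]))
  obtain ⟨h, hh, e'⟩ := u.2
  refine ⟨h, hh, ?_⟩
  rw [e']
  exact mul_inv_eq_iff_eq_mul.1 (congrArg Subtype.val hu)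

/-- Every involution centralising the four-group commutes with a member of the class. -/
theorem exists_pull {f : G} (hf : f ∈ CV d) (hf2 : f * f = 1) :
    ∃ h ∈ CV d, ∃ a : ↥W0, d.emb a = h⁻¹ * f * h ∧ a * a = 1 ∧ a * a45 = a45 * a ∧ a * b45 = b45 * a := by
  obtain ⟨h, hh, e⟩ := exists_fix d hd hodd hf2 (by
    rintro u ⟨k, hk, rfl⟩
    exact ⟨f * k, mul_mem hf hk, by group⟩)
  obtain ⟨a, ha⟩ := d.mem_range (show h⁻¹ * f * h * d.t = d.t * (h⁻¹ * f * h) by
    calc h⁻¹ * f * h * d.t = h⁻¹ * (f * (h * d.t * h⁻¹)) * h := by group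
      _ = _ := by rw [e]; group)
  have hm : d.emb a ∈ CV d := ha ▸ mul_mem (mul_mem (inv_mem hh) hf) hh
  obtain ⟨h1, h2⟩ := (mem_CV d).1 hm
  refine ⟨h, hh, a, ha, d.inj ?_, d.inj ?_, d.inj ?_⟩
  · rw [map_mul, map_one, ha, show h⁻¹ * f * h * (h⁻¹ * f * h) = h⁻¹ * (f * f) * h by group, hf2, mul_one,
      inv_mul_cancel]
  · rw [map_mul, map_mul, h1]
  · rw [map_mul, map_mul, h2]

/-- A fused element centralising the four-group has a fused translate. -/
theorem fused_translate {f : G} (hf : f ∈ CV d) (hfu : ∃ g, g * d.t * g⁻¹ = f) :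
    ∃ v : G, (v = d.emb a45 ∨ v = d.emb b45 ∨ v = d.emb c45) ∧ ∃ g, g * d.t * g⁻¹ = f * v := by
  obtain ⟨g, hg⟩ := hfu
  have hf2 : f * f = 1 := by
    rw [← hg, show g * d.t * g⁻¹ * (g * d.t * g⁻¹) = g * (d.t * d.t) * g⁻¹ by group, d.t_sq, mul_one,
      mul_inv_cancel]
  obtain ⟨h, hh, a, ha, ha2, hax, hab⟩ := exists_pull d hd hodd hf hf2
  have hP : Dat.P27 a.1 := ((hd a).1 ⟨h⁻¹ * g, by rw [ha, ← hg]; group⟩).2
  have hac : a * c45 = c45 * a := by rw [c45, ← mul_assoc, hax, mul_assoc, hab, ← mul_assoc]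
  have key : ∀ w : ↥W0, a * w = w * a → w * w = 1 → h * d.emb w = d.emb w * h → Dat.P27 (a * w).1 →
      ∃ g, g * d.t * g⁻¹ = f * d.emb w := by
    intro w haw hw hhw hp
    have h2 : a * w * (a * w) = 1 := by
      rw [mul_assoc, ← mul_assoc w a w, ← haw, mul_assoc a w w, hw, mul_one, ha2]
    obtain ⟨g', hg'⟩ := (hd (a * w)).2 ⟨h2, hp⟩
    refine ⟨h * g', ?_⟩
    rw [show h * g' * d.t * (h * g')⁻¹ = h * (g' * d.t * g'⁻¹) * h⁻¹ by group, hg', map_mul, ha]
    calc h * (h⁻¹ * f * h * d.emb w) * h⁻¹ = f * (h * d.emb w) * h⁻¹ := by group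
      _ = _ := by rw [hhw, mul_assoc, mul_inv_cancel_right]
  obtain ⟨h1, h2⟩ := (mem_CV d).1 hh
  rcases translate ha2 hax hab hP with hp | hp | hp
  · exact ⟨_, Or.inl rfl, key _ hax model_facts.1 h1 hp⟩
  · exact ⟨_, Or.inr (Or.inl rfl), key _ hab model_facts.2.1 h2 hp⟩
  · refine ⟨_, Or.inr (Or.inr rfl), key _ hac ?_ (CV_comm_c d hh) hp⟩
    rw [c45, mul_assoc, ← mul_assoc b45, ← model_facts.2.2.1, mul_assoc a45 b45, model_facts.2.1, mul_one,
      model_facts.1]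

include hcls

/-- The class is characterised inside the centraliser of the four-group. -/
theorem mem_Kset {f : G} (hf : f ∈ CV d) (hfu : ∃ g, g * d.t * g⁻¹ = f)
    (hn : ∀ g, g * d.t * g⁻¹ ≠ f * d.emb a45) : f ∈ Kset d := by
  obtain ⟨g, hg⟩ := hfu
  have hf2 : f * f = 1 := by
    rw [← hg, show g * d.t * g⁻¹ * (g * d.t * g⁻¹) = g * (d.t * d.t) * g⁻¹ by group, d.t_sq, mul_one,
      mul_inv_cancel]
  obtain ⟨h, hh, a, ha, ha2, hax, hab⟩ := exists_pull d hd hodd hf hf2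
  have h2 : a * a45 * (a * a45) = 1 := by
    rw [mul_assoc, ← mul_assoc a45 a a45, ← hax, mul_assoc a a45 a45, model_facts.1, mul_one, ha2]
  obtain ⟨k, hk, e⟩ := hcls a hax hab ha2 ((hd a).1 ⟨h⁻¹ * g, by rw [ha, ← hg]; group⟩).2 (fun hp => by
    obtain ⟨g', hg'⟩ := (hd _).2 ⟨h2, hp⟩
    refine hn (h * g') ?_
    rw [show h * g' * d.t * (h * g')⁻¹ = h * (g' * d.t * g'⁻¹) * h⁻¹ by group, hg', map_mul, ha]
    calc h * (h⁻¹ * f * h * d.emb a45) * h⁻¹ = f * (h * d.emb a45) * h⁻¹ := by group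
      _ = _ := by rw [((mem_CV d).1 hh).1, mul_assoc, mul_inv_cancel_right])
  refine ⟨h * k, mul_mem hh hk, ?_⟩
  rw [show h * k * d.t * (h * k)⁻¹ = h * (k * d.t * k⁻¹) * h⁻¹ by group, e, ha]
  group

/-- The image of the second involution is isolated modulo the first. -/
theorem b_isolated {g : G} (hgx : g * d.emb a45 = d.emb a45 * g)
    (hcomm : g * d.emb b45 * g⁻¹ * d.emb b45 * (g * d.emb b45 * g⁻¹) = d.emb b45 ∨
      g * d.emb b45 * g⁻¹ * d.emb b45 * (g * d.emb b45 * g⁻¹) = d.emb c45) :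
    g * d.emb b45 * g⁻¹ = d.emb b45 ∨ g * d.emb b45 * g⁻¹ = d.emb c45 := by
  by_contra hne
  push Not at hne
  set x := d.emb a45 with hx
  set b := d.emb b45 with hb
  set k := g * b * g⁻¹ with hk
  have hb2 : b * b = 1 := by rw [hb, ← map_mul, model_facts.2.1, map_one]
  have hbx : b * x = x * b := by rw [hb, hx, ← map_mul, ← map_mul, model_facts.2.2.1]
  have hk2 : k * k = 1 := by
    rw [hk, show g * b * g⁻¹ * (g * b * g⁻¹) = g * (b * b) * g⁻¹ by group, hb2, mul_one, mul_inv_cancel]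
  have hkx : k * x = x * k := by
    have hgx' : g⁻¹ * x = x * g⁻¹ := (Commute.inv_left (show Commute g x from hgx)).eq
    calc g * b * g⁻¹ * x = g * b * (g⁻¹ * x) := by group
      _ = g * (b * x) * g⁻¹ := by rw [hgx']; group
      _ = g * x * b * g⁻¹ := by rw [hbx]; group
      _ = x * g * b * g⁻¹ := by rw [hgx]
      _ = _ := by rw [hk]; group
  have hki : k⁻¹ = k := inv_eq_of_mul_eq_one_right hk2
  have hc : d.emb c45 = x * b := by rw [hx, hb, c45, map_mul]
  have hkCV : ∀ u ∈ CV d, k * u * k⁻¹ ∈ CV d := by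
    intro u hu
    obtain ⟨u1, u2⟩ := (mem_CV d).1 hu
    have u3 := CV_comm_c d hu
    have conj : ∀ w w' : G, k * w * k = w' → u * w' = w' * u → (k * u * k) * w = w * (k * u * k) := by
      intro w w' hw hu'
      have hw' : w = k * w' * k := by
        rw [← hw, show k * (k * w * k) * k = k * k * w * (k * k) by group, hk2, one_mul, mul_one]
      rw [hw']
      calc k * u * k * (k * w' * k) = k * (u * (k * k) * w') * k := by group
        _ = k * (w' * u) * k := by rw [hk2, mul_one, hu']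
        _ = k * w' * (k * k) * u * k := by rw [hk2, mul_one]; group
        _ = _ := by group
    rw [hki, mem_CV]
    refine ⟨conj x x (by rw [hkx, mul_assoc, hk2, mul_one]) u1, ?_⟩
    rcases hcomm with h | h
    · exact conj b b h u2
    · exact conj b _ h u3
  obtain ⟨h, hh, e⟩ := exists_fix d hd hodd hk2 (by
    intro u hu
    obtain ⟨huC, -, ⟨g', hg'⟩, hun⟩ := Kset_sub d hd hu
    refine mem_Kset d hd hodd hcls (hkCV u huC) ⟨k * g', by rw [← hg']; group⟩ fun g'' e => hun (k⁻¹ * g'') ?_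
    rw [show k⁻¹ * g'' * d.t * (k⁻¹ * g'')⁻¹ = k⁻¹ * (g'' * d.t * g''⁻¹) * k by group, e]
    calc k⁻¹ * (k * u * k⁻¹ * x) * k = u * k⁻¹ * (x * k) := by group
      _ = _ := by rw [← hkx, hx]; group)
  obtain ⟨h1, h2⟩ := (mem_CV d).1 hh
  rw [← hx] at h1
  rw [← hb] at h2
  have h3 := CV_comm_c d hh
  -- the conjugate inside the model
  obtain ⟨a, ha⟩ := d.mem_range (show h⁻¹ * k * h * d.t = d.t * (h⁻¹ * k * h) by
    calc h⁻¹ * k * h * d.t = h⁻¹ * (k * (h * d.t * h⁻¹)) * h := by group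
      _ = _ := by rw [e]; group)
  have back : ∀ w : G, h * w = w * h → h⁻¹ * w * h = w := fun w hw => by
    rw [mul_assoc, ← hw, inv_mul_cancel_left]
  have ha2 : a * a = 1 := d.inj (by
    rw [map_mul, map_one, ha, show h⁻¹ * k * h * (h⁻¹ * k * h) = h⁻¹ * (k * k) * h by group, hk2, mul_one,
      inv_mul_cancel])
  have hax : a * a45 = a45 * a := d.inj (by
    rw [map_mul, map_mul, ha, ← hx]
    calc h⁻¹ * k * h * x = h⁻¹ * (k * x) * h := by rw [mul_assoc (h⁻¹ * k), h1]; group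
      _ = h⁻¹ * x * h * (h⁻¹ * k * h) := by rw [hkx]; group
      _ = _ := by rw [back x h1])
  set g' := h⁻¹ * g with hg'
  have g'x : g' * x * g'⁻¹ = x := by
    rw [hg', show h⁻¹ * g * x * (h⁻¹ * g)⁻¹ = h⁻¹ * (g * x) * g⁻¹ * h by group, hgx]
    calc h⁻¹ * (x * g) * g⁻¹ * h = h⁻¹ * x * h := by group
      _ = x := back x h1
  have g'b : g' * b * g'⁻¹ = d.emb a := by rw [ha, hg', hk]; group
  have hout : Outer a.1 := by
    refine ⟨fun hp => ?_, fun hp => ?_, ?_, ?_, ?_, ?_, ?_⟩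
    · obtain ⟨g'', hg''⟩ := (hd a).2 ⟨ha2, hp⟩
      exact not_conj_t d hd (a := b45) model_facts.2.2.2.2.2.2.2.1 (g'⁻¹ * g'') (by
        rw [show g'⁻¹ * g'' * d.t * (g'⁻¹ * g'')⁻¹ = g'⁻¹ * (g'' * d.t * g''⁻¹) * g' by group, hg'', ← g'b, hb]
        group)
    · have h2' : a * a45 * (a * a45) = 1 := by
        rw [mul_assoc, ← mul_assoc a45 a a45, ← hax, mul_assoc a a45 a45, model_facts.1, mul_one, ha2]
      obtain ⟨g'', hg''⟩ := (hd (a * a45)).2 ⟨h2', hp⟩
      refine not_conj_t d hd (a := c45) model_facts.2.2.2.2.2.2.2.2.1 (g'⁻¹ * g'') ?_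
      rw [show g'⁻¹ * g'' * d.t * (g'⁻¹ * g'')⁻¹ = g'⁻¹ * (g'' * d.t * g''⁻¹) * g' by group, hg'', map_mul, ← g'b,
        ← hx, hc]
      calc g'⁻¹ * (g' * b * g'⁻¹ * x) * g' = g'⁻¹ * (g' * b * g'⁻¹ * (g' * x * g'⁻¹)) * g' := by rw [g'x]
        _ = b * x := by group
        _ = x * b := hbx
    · rcases hcomm with hh' | hh'
      · left
        refine congrArg Subtype.val (show a * b45 * a = b45 from d.inj ?_)
        rw [map_mul, map_mul, ha]
        calc h⁻¹ * k * h * b * (h⁻¹ * k * h) = h⁻¹ * k * (h * b * h⁻¹) * k * h := by group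
          _ = h⁻¹ * (k * b * k) * h := by rw [h2]; group
          _ = b := by rw [hh', back b h2]
      · right
        refine congrArg Subtype.val (show a * b45 * a = c45 from d.inj ?_)
        rw [map_mul, map_mul, ha]
        calc h⁻¹ * k * h * b * (h⁻¹ * k * h) = h⁻¹ * k * (h * b * h⁻¹) * k * h := by group
          _ = h⁻¹ * (k * b * k) * h := by rw [h2]; group
          _ = _ := by rw [hh', back _ h3]
    all_goals intro ea
    all_goals have ek : k = h * (h⁻¹ * k * h) * h⁻¹ := by group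
    all_goals rw [← ha] at ek
    · rw [show a = 1 from Subtype.ext ea, map_one, mul_one, mul_inv_cancel] at ek
      exact model_facts.2.2.2.2.1 (d.inj ((show b = 1 from by
        calc b = g⁻¹ * k * g := by rw [hk]; group
          _ = 1 := by rw [ek, mul_one, inv_mul_cancel]).trans (map_one d.emb).symm))
    · rw [show a = a45 from Subtype.ext ea, ← hx, h1, mul_inv_cancel_right] at ek
      refine model_facts.2.2.2.2.2.1 (d.inj ?_).symm
      calc b = g⁻¹ * k * g := by rw [hk]; group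
        _ = g⁻¹ * (g * x) := by rw [ek, hgx]; group
        _ = x := by group
    · rw [show a = b45 from Subtype.ext ea, ← hb, h2, mul_inv_cancel_right] at ek
      exact hne.1 ek
    · rw [show a = c45 from Subtype.ext ea, h3, mul_inv_cancel_right] at ek
      exact hne.2 ek
  obtain ⟨f, hf2, hf27, hfx, hfk, n1, n2, n3⟩ := witness ha2 hax hout
  obtain ⟨g₁, hg₁⟩ := (hd f).2 ⟨hf2, hf27⟩
  have ef : ∀ w : ↥W0, f * w = w * f → w * w = 1 → ¬Dat.P27 (f * w).1 →
      ∀ g, g * d.t * g⁻¹ ≠ d.emb f * d.emb w := fun w _ _ hn g => by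
    rw [← map_mul]; exact not_conj_t d hd hn g
  have hmem : g'⁻¹ * d.emb f * g' ∈ CV d := by
    rw [mem_CV, ← hx, ← hb]
    refine ⟨?_, ?_⟩
    · calc g'⁻¹ * d.emb f * g' * x = g'⁻¹ * (d.emb f * (g' * x * g'⁻¹)) * g' := by group
        _ = g'⁻¹ * (g' * x * g'⁻¹ * d.emb f) * g' := by rw [g'x, hx, ← map_mul, hfx, map_mul]
        _ = _ := by group
    · calc g'⁻¹ * d.emb f * g' * b = g'⁻¹ * (d.emb f * (g' * b * g'⁻¹)) * g' := by group
        _ = g'⁻¹ * (g' * b * g'⁻¹ * d.emb f) * g' := by rw [g'b, ← map_mul, hfk, map_mul]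
        _ = _ := by group
  obtain ⟨v, hv, g₂, hg₂⟩ := fused_translate d hd hodd hmem ⟨g'⁻¹ * g₁, by rw [← hg₁]; group⟩
  have e2 : (g' * g₂) * d.t * (g' * g₂)⁻¹ = d.emb f * (g' * v * g'⁻¹) := by
    rw [show g' * g₂ * d.t * (g' * g₂)⁻¹ = g' * (g₂ * d.t * g₂⁻¹) * g'⁻¹ by group, hg₂]
    group
  rcases hv with rfl | rfl | rfl
  · rw [g'x, hx] at e2
    exact ef a45 hfx model_facts.1 n1 _ e2
  · rw [g'b] at e2
    exact ef a hfk ha2 n2 _ e2
  · rw [hc, show g' * (x * b) * g'⁻¹ = g' * x * g'⁻¹ * (g' * b * g'⁻¹) by group, g'x, g'b, hx, ← map_mul d.emb] at e2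
    refine ef (a45 * a) ?_ ?_ n3 _ e2
    · rw [← mul_assoc, hfx, mul_assoc, hfk, ← mul_assoc]
    · rw [mul_assoc, ← mul_assoc a, hax, mul_assoc, ha2, mul_one, model_facts.1]

/-- The centraliser of the short involution normalises the four-group. -/
theorem normalize_V {m : G} (hm : m * d.emb a45 = d.emb a45 * m) :
    m * d.emb b45 * m⁻¹ = d.emb b45 ∨ m * d.emb b45 * m⁻¹ = d.emb c45 := by
  classical
  set H := centralizer ({d.emb a45} : Set G) with hH
  have memH : ∀ {g}, g ∈ H ↔ g * d.emb a45 = d.emb a45 * g := fun {g} => mem_centralizer_singleton_iff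
  let xH : ↥H := ⟨d.emb a45, memH.2 rfl⟩
  have hxc : ∀ g : ↥H, g * xH = xH * g := fun g => Subtype.ext (memH.1 g.2)
  have hx2 : xH * xH = 1 := Subtype.ext (by
    show d.emb a45 * d.emb a45 = 1
    rw [← map_mul, model_facts.1, map_one])
  let N : Subgroup ↥H :=
    { carrier := {g | g = 1 ∨ g = xH}
      mul_mem' := by
        rintro a b (rfl | rfl) (rfl | rfl)
        exacts [Or.inl (one_mul _), Or.inr (one_mul _), Or.inr (mul_one _), Or.inl hx2]
      one_mem' := Or.inl rfl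
      inv_mem' := by
        rintro a (rfl | rfl)
        exacts [Or.inl inv_one, Or.inr (inv_eq_of_mul_eq_one_right hx2)] }
  have hN : N.Normal := ⟨fun n hn g => by
    rcases hn with rfl | rfl
    · exact Or.inl (by group)
    · exact Or.inr (by rw [hxc g, mul_inv_cancel_right])⟩
  let π : ↥H →* ↥H ⧸ N := QuotientGroup.mk' N
  have hπ : ∀ {a b : ↥H}, π a = π b → a = b ∨ a = b * xH := by
    intro a b h
    rcases (QuotientGroup.eq.1 h.symm : b⁻¹ * a ∈ N) with h' | h'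
    · exact Or.inl (by rw [show a = b * (b⁻¹ * a) by group, h', mul_one])
    · exact Or.inr (by rw [show a = b * (b⁻¹ * a) by group, h'])
  have embH : ∀ {w : ↥W0}, w * a45 = a45 * w → d.emb w ∈ H := fun h => memH.2 (by rw [← map_mul, h, map_mul])
  let bH : ↥H := ⟨d.emb b45, embH model_facts.2.2.1.symm⟩
  have hbH : bH * bH = 1 := Subtype.ext (by
    show d.emb b45 * d.emb b45 = 1
    rw [← map_mul, model_facts.2.1, map_one])
  have hbc : d.emb b45 * d.emb a45 = d.emb c45 := by rw [← map_mul, ← model_facts.2.2.1]; rfl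
  have conj_of_π : ∀ {g : ↥H}, π g * π bH * (π g)⁻¹ = π bH →
      g.1 * d.emb b45 * g.1⁻¹ = d.emb b45 ∨ g.1 * d.emb b45 * g.1⁻¹ = d.emb c45 := by
    intro g h
    rw [← map_mul, ← map_inv, ← map_mul] at h
    rcases hπ h with h' | h'
    · exact Or.inl (congrArg Subtype.val h')
    · exact Or.inr ((congrArg Subtype.val h').trans hbc)
  have hord : orderOf (π bH) = 2 := by
    refine orderOf_eq_prime (by rw [pow_two, ← map_mul, hbH, map_one]) fun h => ?_
    rcases hπ (h.trans (map_one π).symm) with h' | h'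
    · exact model_facts.2.2.2.2.1 (d.inj ((congrArg Subtype.val h').trans (map_one d.emb).symm))
    · rw [one_mul] at h'
      exact model_facts.2.2.2.2.2.1 (d.inj (congrArg Subtype.val h')).symm
  have hiso : Cfsg.IsIsolated (π bH) := by
    intro q hq
    obtain ⟨g, rfl⟩ := QuotientGroup.mk'_surjective N q
    set k := g * bH * g⁻¹ with hk
    have hπk : π g * π bH * (π g)⁻¹ = π k := by rw [hk, map_mul, map_mul, map_inv]
    rw [show QuotientGroup.mk' N g = π g from rfl, hπk] at hq ⊢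
    have hk2 : k * k = 1 := by
      rw [hk, show g * bH * g⁻¹ * (g * bH * g⁻¹) = g * (bH * bH) * g⁻¹ by group, hbH, mul_one, mul_inv_cancel]
    have h1 : π (k * bH * k) = π bH := by
      rw [map_mul, map_mul, ← hq.eq, mul_assoc, ← map_mul π k k, hk2, map_one, mul_one]
    rcases b_isolated d hd hodd hcls (memH.1 g.2) (by
      rcases hπ h1 with h' | h'
      · exact Or.inl (congrArg Subtype.val h')
      · exact Or.inr ((congrArg Subtype.val h').trans hbc)) with h' | h'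
    · exact congrArg π (Subtype.ext h' : k = bH)
    · rw [show k = bH * xH from Subtype.ext (h'.trans hbc.symm), map_mul,
        show π xH = 1 from (QuotientGroup.eq_one_iff xH).2 (Or.inr rfl), mul_one]
  have hsup := McLTwoA8.sup_oddCore_of_isolated (π bH) hord hiso
  have : Fact (Nat.Prime 2) := ⟨Nat.prime_two⟩
  have hOn : (Cfsg.oddCore (↥H ⧸ N)).Normal := FittingCores.pPrimeCore_normal 2
  have hOodd : Odd (Nat.card ↥(Cfsg.oddCore (↥H ⧸ N))) :=
    Nat.coprime_two_right.1 (FittingCores.pPrimeCore_coprime (G := ↥H ⧸ N) 2)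
  obtain ⟨mf1, mf2, mf3, mf4, mf5, mf6, mf7, mf8, mf9, mf10, mf11, mf12, mu1, mu2, mu3, mu4, mu5, mw1, mw2, mw3,
    mw4, mw5, mne1, mne2⟩ := model_facts
  let T : ↥H := ⟨d.t, embH (z0_comm _).symm⟩
  let U : ↥H := ⟨d.emb u45, embH mu2⟩
  -- a member of the class
  have fix : ∀ {w : ↥H}, w.1 ∈ Kset d →
      Cfsg.oddCore (↥H ⧸ N) ⊓ centralizer ({π w} : Set (↥H ⧸ N)) ≤ centralizer ({π bH} : Set (↥H ⧸ N)) := by
    rintro w ⟨h, hh, hw⟩ q hq
    obtain ⟨hqO, hqw⟩ := Subgroup.mem_inf.1 hq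
    obtain ⟨n, rfl⟩ := QuotientGroup.mk'_surjective N q
    replace hqw : π n * π w = π w * π n := mem_centralizer_singleton_iff.1 hqw
    obtain ⟨h1, h2⟩ := (mem_CV d).1 hh
    have hnw : n * w = w * n := by
      rcases hπ (show π (n * w * n⁻¹) = π w by
        rw [map_mul, map_mul, map_inv]; exact (mul_inv_eq_iff_eq_mul.2 hqw)) with h' | h'
      · exact mul_inv_eq_iff_eq_mul.1 h'
      · exfalso
        refine (Kset_sub d hd (u := w.1) ⟨h, hh, hw⟩).2.2.2 (n.1 * h) ?_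
        rw [show n.1 * h * d.t * (n.1 * h)⁻¹ = n.1 * (h * d.t * h⁻¹) * n.1⁻¹ by group, hw]
        exact congrArg Subtype.val h'
    obtain ⟨a, ha⟩ := d.mem_range (show h⁻¹ * n.1 * h * d.t = d.t * (h⁻¹ * n.1 * h) by
      have e : n.1 * w.1 = w.1 * n.1 := congrArg Subtype.val hnw
      calc h⁻¹ * n.1 * h * d.t = h⁻¹ * (n.1 * (h * d.t * h⁻¹)) * h := by group
        _ = _ := by rw [hw, e, ← hw]; group)
    have hax : a * a45 = a45 * a := d.inj (by
      rw [map_mul, map_mul, ha]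
      have hn := memH.1 n.2
      calc h⁻¹ * n.1 * h * d.emb a45 = h⁻¹ * (n.1 * d.emb a45) * h := by
            rw [mul_assoc (h⁻¹ * n.1), h1]; group
        _ = h⁻¹ * d.emb a45 * h * (h⁻¹ * n.1 * h) := by rw [hn]; group
        _ = _ := by rw [mul_assoc h⁻¹, ← h1, inv_mul_cancel_left])
    have hsq : n * n * bH = bH * (n * n) := Subtype.ext (by
      show n.1 * n.1 * d.emb b45 = d.emb b45 * (n.1 * n.1)
      have e : h⁻¹ * n.1 * h * (h⁻¹ * n.1 * h) * d.emb b45 =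
          d.emb b45 * (h⁻¹ * n.1 * h * (h⁻¹ * n.1 * h)) := by
        rw [← ha, ← map_mul, ← map_mul, sq_comm_b hax, map_mul]
      calc n.1 * n.1 * d.emb b45 = h * (h⁻¹ * n.1 * h * (h⁻¹ * n.1 * h)) * (h⁻¹ * d.emb b45) := by group
        _ = h * (h⁻¹ * n.1 * h * (h⁻¹ * n.1 * h)) * (d.emb b45 * h⁻¹) := by
            rw [(Commute.inv_left (show Commute h (d.emb b45) from h2)).eq]
        _ = h * (h⁻¹ * n.1 * h * (h⁻¹ * n.1 * h) * d.emb b45) * h⁻¹ := by group
        _ = h * d.emb b45 * (h⁻¹ * n.1 * h * (h⁻¹ * n.1 * h)) * h⁻¹ := by rw [e]; group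
        _ = _ := by rw [h2]; group)
    rw [mem_centralizer_singleton_iff]
    have hq2 : Commute (π n * π n) (π bH) := by
      show π n * π n * π bH = π bH * (π n * π n)
      rw [← map_mul, ← map_mul, hsq, map_mul]
    obtain ⟨j, hj⟩ : ∃ j : ℕ, π n = (π n * π n) ^ j := by
      have hodd' : Odd (orderOf (π n)) := hOodd.of_dvd_nat (by
        have := orderOf_dvd_natCard (⟨π n, hqO⟩ : ↥(Cfsg.oddCore (↥H ⧸ N)))
        rwa [Subgroup.orderOf_mk] at this)
      obtain ⟨i, hi⟩ := hodd'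
      refine ⟨i + 1, ?_⟩
      rw [← pow_two, ← pow_mul, show 2 * (i + 1) = orderOf (π n) + 1 by omega, pow_succ, pow_orderOf_eq_one,
        one_mul]
    show π n * π bH = π bH * π n
    rw [hj]
    exact (hq2.pow_left j).eq
  have kT : T.1 ∈ Kset d := ⟨1, one_mem _, by simp [T]⟩
  have kU : U.1 ∈ Kset d := hcls u45 mu2 mu3 mu1 mu4 mu5
  have kTU : (xH * T * U).1 ∈ Kset d := by
    show d.emb a45 * d.t * d.emb u45 ∈ Kset d
    rw [show d.t = d.emb z0 from rfl, ← map_mul, ← map_mul,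
      show a45 * z0 = z0 * a45 from z0_comm a45]
    exact hcls _ mw2 mw3 mw1 mw4 mw5
  have πne : ∀ {w w' : ↥W0} (hw : d.emb w ∈ H) (hw' : d.emb w' ∈ H), w ≠ w' → w ≠ w' * a45 →
      π ⟨_, hw⟩ ≠ π ⟨_, hw'⟩ := by
    intro w w' hw hw' n1 n2 e
    rcases hπ e with h' | h'
    · exact n1 (d.inj (congrArg Subtype.val h'))
    · exact n2 (d.inj ((congrArg Subtype.val h').trans (map_mul d.emb w' a45).symm))
  have ne1 : ∀ {w : ↥W0} (hw : d.emb w ∈ H), Dat.P27 w.1 → π ⟨_, hw⟩ ≠ 1 := by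
    intro w hw hp e
    rcases hπ (e.trans (map_one π).symm) with h' | h'
    · have := d.inj ((congrArg Subtype.val h').trans (map_one d.emb).symm)
      subst this
      exact absurd hp (by decide +kernel)
    · rw [one_mul] at h'
      exact mf10 ((d.inj (congrArg Subtype.val h') : w = a45) ▸ hp)
  have hOle : Cfsg.oddCore (↥H ⧸ N) ≤ centralizer ({π bH} : Set (↥H ⧸ N)) := by
    refine S3298Sp.le_of_pair hOodd (a := π T) (b := π U) ?_ ?_ ?_ (ne1 _ mf12) (ne1 _ mu4)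
      (πne _ _ mne1 mne2) ?_ ?_ (fix kT) (fix kU) ?_
    · rw [← map_mul, show T * T = 1 from Subtype.ext d.t_sq, map_one]
    · rw [← map_mul, show U * U = 1 from Subtype.ext (by
        show d.emb u45 * d.emb u45 = 1
        rw [← map_mul, mu1, map_one]), map_one]
    · show π T * π U = π U * π T
      rw [← map_mul, ← map_mul, show T * U = U * T from Subtype.ext (by
        show d.emb z0 * d.emb u45 = d.emb u45 * d.emb z0
        rw [← map_mul, ← z0_comm, map_mul])]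
    · rw [Subgroup.normalizer_eq_top]; exact mem_top _
    · rw [Subgroup.normalizer_eq_top]; exact mem_top _
    · have e : π T * π U = π (xH * T * U) := by
        rw [map_mul, map_mul, show π xH = 1 from (QuotientGroup.eq_one_iff xH).2 (Or.inr rfl), one_mul]
      rw [e]
      exact fix kTU
  have hall : π ⟨m, memH.2 hm⟩ ∈ centralizer ({π bH} : Set (↥H ⧸ N)) :=
    (show (⊤ : Subgroup (↥H ⧸ N)) ≤ _ from hsup ▸ sup_le le_rfl hOle) (mem_top _)
  rw [mem_centralizer_singleton_iff] at hall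
  exact conj_of_π (g := ⟨m, memH.2 hm⟩) (mul_inv_eq_iff_eq_mul.2 hall)

/-- Squares of the centraliser of the short involution centralise the four-group. -/
theorem sq_mem_CV {m : G} (hm : m * d.emb a45 = d.emb a45 * m) : m * m ∈ CV d := by
  have h2 : m * m * d.emb a45 = d.emb a45 * (m * m) := by rw [mul_assoc, hm, ← mul_assoc, hm, mul_assoc]
  refine (mem_CV d).2 ⟨h2, mul_inv_eq_iff_eq_mul.1 ?_⟩
  rw [show m * m * d.emb b45 * (m * m)⁻¹ = m * (m * d.emb b45 * m⁻¹) * m⁻¹ by group]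
  rcases normalize_V d hd hodd hcls hm with h | h
  · rw [h, h]
  · rw [h, c45, map_mul, show m * (d.emb a45 * d.emb b45) * m⁻¹ = m * d.emb a45 * m⁻¹ * (m * d.emb b45 * m⁻¹) by
      group, h, hm, mul_inv_cancel_right, c45, map_mul, ← mul_assoc, ← map_mul, model_facts.1, map_one, one_mul]

/-- Elements of odd order centralising the short involution centralise the four-group. -/
theorem odd_mem_CV {m : G} (hm : m * d.emb a45 = d.emb a45 * m) {i : ℕ} (hi : m ^ (2 * i + 1) = 1) :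
    m ∈ CV d := by
  have e : m = (m * m) ^ (i + 1) := by
    rw [← pow_two, ← pow_mul, show 2 * (i + 1) = 2 * i + 1 + 1 by omega, pow_succ, hi, one_mul]
  rw [e]
  exact pow_mem (sq_mem_CV d hd hodd hcls hm) _

/-- The centraliser of the short involution is generated by the smaller one and the model. -/
theorem cent_le_of_CV_le {Y : Subgroup G} (hCV : CV d ≤ Y) (hemb : d.emb.range ≤ Y) :
    centralizer ({d.emb a45} : Set G) ≤ Y := by
  intro m hm
  rw [mem_centralizer_singleton_iff] at hm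
  rcases normalize_V d hd hodd hcls hm with h | h
  · exact hCV ((mem_CV d).2 ⟨hm, mul_inv_eq_iff_eq_mul.1 h⟩)
  · let w : ↥W0 := ⟨W.fl ![0, 0, 1, 0, 1, 0], mem_W0.2 (by decide +kernel)⟩
    have hw : w * a45 = a45 * w := Subtype.ext (by decide +kernel)
    have hwb : w * c45 * w⁻¹ = b45 := Subtype.ext (by decide +kernel)
    have : d.emb w * m ∈ CV d := (mem_CV d).2 ⟨by
      rw [mul_assoc, hm, ← mul_assoc, ← map_mul, hw, map_mul, mul_assoc], mul_inv_eq_iff_eq_mul.1 (by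
      rw [show d.emb w * m * d.emb b45 * (d.emb w * m)⁻¹ = d.emb w * (m * d.emb b45 * m⁻¹) * (d.emb w)⁻¹ by group,
        h, ← map_inv, ← map_mul, ← map_mul, hwb])⟩
    have := mul_mem (inv_mem (hemb ⟨w, rfl⟩)) (hCV this)
    rwa [inv_mul_cancel_left] at this

end

end Cfsg.Agent.S3298Lib
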