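import Cfsg.Agent.Lib.S3298.LocalX.CentX
import Cfsg.Agent.Lib.S3298.Finite.Aut
import Cfsg.Agent.Lib.S3298.Glue.Build

/-!
S3298, step 5 of the alternating branch: the two three-cycles through the first two points centralise the
model elements fixing the first two pairs.
-/

set_option autoImplicit false
set_option maxRecDepth 100000
set_option linter.unusedSectionVars false

namespace Cfsg.Agent.S3298Lib

open Equiv Subgroup SylClasses S3298Fus BoundedPres

/-- The elements fixing the first two pairs pointwise. -/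
def T4 : Subgroup ↥W0 where
  carrier := {a | ∀ i : Fin 13, i.val < 4 → std a i = i}
  mul_mem' {a b} ha hb i hi := by rw [map_mul, Perm.mul_apply, hb i hi, ha i hi]
  one_mem' i _ := by rw [map_one]; rfl
  inv_mem' {a} ha i hi := by rw [map_inv, Perm.inv_eq_iff_eq, ha i hi]

/-- The exchange of the first two pairs with the last two. -/
def pi04 : ↥W0 := pm0 (swap 0 4 * swap 1 5)

/-- The flip of the middle pairs. -/
def a23 : ↥W0 := ⟨W.fl ![0, 0, 1, 1, 0, 0], mem_W0.2 (by decide +kernel)⟩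

/-- The exchange of the middle pairs. -/
def b23 : ↥W0 := pm0 (swap 2 3)

/-- The four-group of the first two pairs. -/
def v01 : Fin 4 → ↥W0 := ![1, f01, pm0 (swap 0 1), f01 * pm0 (swap 0 1)]

theorem tg_conj : pi04 * tg 0 * pi04⁻¹ = b45 ∧ pi04 * tg 1 * pi04⁻¹ = pm0 (swap 2 5) ∧
    pi04 * tg 2 * pi04⁻¹ = b23 ∧ pi04 * tg 3 * pi04⁻¹ = a45 ∧
    pm0 (swap 2 5) = pm0 (swap 4 5) * pm0 (swap 2 4) * (pm0 (swap 4 5))⁻¹ ∧
    pm0 (swap 2 5) = pm0 (swap 2 4) * b45 * (pm0 (swap 2 4))⁻¹ ∧ pi04 * pi04 = 1 := by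
  repeat' refine And.intro ?_ ?_
  all_goals exact Subtype.ext (by decide +kernel)

theorem pi04_apply : ∀ i : Fin 13, (i.val < 4 → 8 ≤ (std pi04 i).val) ∧ (8 ≤ i.val → i.val < 12 → (std pi04 i).val < 4) := by
  decide +kernel

theorem pi_T8 {a : ↥W0} (h : a ∈ T8) : pi04 * a * pi04⁻¹ ∈ T4 := fun i hi => by
  have e : (std pi04).symm i = std pi04 i := by
    rw [symm_apply_eq, ← Perm.mul_apply, ← map_mul, tg_conj.2.2.2.2.2.2, map_one]
    rfl
  rw [map_mul, map_mul, map_inv, Perm.mul_apply, Perm.mul_apply]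
  show std pi04 (std a ((std pi04).symm i)) = i
  rw [e, h _ ((pi04_apply i).1 hi), ← e, apply_symm_apply]

theorem pi_T4 {a : ↥W0} (h : a ∈ T4) : pi04⁻¹ * a * pi04 ∈ T8 := fun i hi => by
  rw [map_mul, map_mul, map_inv, Perm.mul_apply, Perm.mul_apply]
  show (std pi04).symm (std a (std pi04 i)) = i
  by_cases h12 : i.val < 12
  · rw [h _ ((pi04_apply i).2 hi h12), symm_apply_apply]
  · rw [show i = 12 from Fin.ext (by have := i.isLt; simp; omega), std_last, std_last, symm_apply_eq, std_last]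

theorem T4_le {K : Subgroup ↥W0} (h0 : b45 ∈ K) (h1 : pm0 (swap 2 5) ∈ K) (h2 : b23 ∈ K) (h3 : a45 ∈ K) :
    T4 ≤ K := by
  intro a ha
  have h := T8_closure (K := K.comap (MulAut.conj pi04).toMonoidHom) (fun k => ?_) (pi_T4 ha)
  · rw [mem_comap] at h
    have e : (MulAut.conj pi04).toMonoidHom (pi04⁻¹ * a * pi04) = a := by
      show pi04 * (pi04⁻¹ * a * pi04) * pi04⁻¹ = a
      group
    rwa [e] at h
  · show pi04 * tg k * pi04⁻¹ ∈ K
    obtain ⟨e0, e1, e2, e3, -⟩ := tg_conj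
    fin_cases k
    · exact e0 ▸ h0
    · exact e1 ▸ h1
    · exact e2 ▸ h2
    · exact e3 ▸ h3

theorem type_raw : ∀ p : Perm (Fin 6), (p 0 = 0 ∧ p 1 = 1 ∧ ∀ i, p (p i) = i) →
    ∀ v : Fin 6 → ZMod 2, (v 0 = 0 ∧ v 1 = 0 ∧ W.par (W.fl v) = 0 ∧ (∀ i, v (p i) = v i) ∧ (⟨v, p⟩ : W6) ≠ 1) →
      ∀ k : Fin 4, k ≠ 0 → ((stdW ⟨v, p⟩).support.card = 4 ∧ ¬Dat.P27 (⟨v, p⟩ * (v01 k).1)) ∨
        ((stdW ⟨v, p⟩).support.card = 8 ∧ Dat.P27 (⟨v, p⟩ * (v01 k).1)) := by
  decide +kernel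

theorem T4_coord {a : ↥W0} (h : a ∈ T4) : ∀ i : Fin 6, i.val < 2 → a.1.p i = i ∧ a.1.v i = 0 := by
  intro i hi
  have := h (e13 (Sum.inl (i, 0))) (by
    show 2 * i.val + (0 : ZMod 2).val < 4
    simp; omega)
  have e : std a (e13 (Sum.inl (i, 0))) = e13 (Sum.inl (a.1.p i, 0 + a.1.v (a.1.p i))) := by
    show e13 ((Perm.sumCongr (dbl a.1) (1 : Perm (Fin 1))) (e13.symm (e13 (Sum.inl (i, 0))))) = _
    rw [Equiv.symm_apply_apply]
    rfl
  rw [e] at this
  have h' := Sum.inl_injective (e13.injective this)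
  have hp : a.1.p i = i := congrArg Prod.fst h'
  refine ⟨hp, ?_⟩
  have hv := congrArg Prod.snd h'
  simpa [hp] using hv

/-- The number of moved points is seen by the fusion of each translate. -/
theorem T4_type {a : ↥W0} (h : a ∈ T4) (h2 : a * a = 1) (h1 : a ≠ 1) {k : Fin 4} (hk : k ≠ 0) :
    ((std a).support.card = 4 ∧ ¬Dat.P27 (a * v01 k).1) ∨ ((std a).support.card = 8 ∧ Dat.P27 (a * v01 k).1) := by
  obtain ⟨hinv, hv⟩ := invol_facts (congrArg Subtype.val h2 : a.1 * a.1 = 1)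
  exact type_raw a.1.p ⟨(T4_coord h 0 (by decide)).1, (T4_coord h 1 (by decide)).1, hinv⟩ a.1.v
    ⟨(T4_coord h 0 (by decide)).2, (T4_coord h 1 (by decide)).2, by simpa [W.par] using mem_W0.1 a.2, hv,
      fun e => h1 (Subtype.ext e)⟩ k hk

theorem v01_mul : ∀ a b : Fin 4, ∃ c : Fin 4, v01 a * v01 b = v01 c := by
  simp only [Subtype.ext_iff, Subgroup.coe_mul]
  decide +kernel

/-- The four-group of the first two pairs is central over the rest. -/
theorem T4_comm_v01 {a : ↥W0} (ha : a ∈ T4) (k : Fin 4) : a * v01 k = v01 k * a := by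
  have hle : T4 ≤ centralizer ({v01 k} : Set ↥W0) := by
    refine T4_le ?_ ?_ ?_ ?_ <;> rw [mem_centralizer_singleton_iff] <;>
      refine Subtype.ext ?_ <;> revert k <;> decide +kernel
  exact mem_centralizer_singleton_iff.1 (hle ha)

theorem stdW_inl (a : W6) (i : Fin 6) (c : ZMod 2) :
    stdW a (e13 (Sum.inl (i, c))) = e13 (Sum.inl (a.p i, c + a.v (a.p i))) := by
  show e13 ((Perm.sumCongr (dbl a) (1 : Perm (Fin 1))) (e13.symm (e13 (Sum.inl (i, c))))) = _
  rw [Equiv.symm_apply_apply]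
  rfl

theorem std_injective : Function.Injective std := by
  intro a b h
  have hh : ∀ i : Fin 6, a.1.p i = b.1.p i ∧ a.1.v (a.1.p i) = b.1.v (b.1.p i) := fun i => by
    have h' : stdW a.1 (e13 (Sum.inl (i, 0))) = stdW b.1 (e13 (Sum.inl (i, 0))) := DFunLike.congr_fun h _
    rw [stdW_inl, stdW_inl] at h'
    have := Sum.inl_injective (e13.injective h')
    exact ⟨congrArg Prod.fst this, by simpa using congrArg Prod.snd this⟩
  refine Subtype.ext (W.ext (funext fun i => ?_) (Equiv.ext fun i => (hh i).1))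
  obtain ⟨j, rfl⟩ := a.1.p.surjective i
  rw [(hh j).2, (hh j).1]

/-- Centralising the four-group of the first two pairs: a product. -/
theorem split01_raw : ∀ p : Perm (Fin 6),
    ((p 0 = 0 ∧ p 1 = 1 ∨ p 0 = 1 ∧ p 1 = 0) ∧ ∀ i : Fin 6, 2 ≤ i.val → 2 ≤ (p i).val) →
    ∀ v : Fin 6 → ZMod 2, (W.par (W.fl v) = 0 ∧ v 0 = v 1) →
      ∃ k : Fin 4, ∀ i : Fin 13, i.val < 4 → stdW ((v01 k).1⁻¹ * ⟨v, p⟩) i = i := by
  decide +kernel

theorem split01 {a : ↥W0} (h1 : a * f01 = f01 * a) (h2 : a * pm0 (swap 0 1) = pm0 (swap 0 1) * a) :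
    ∃ k : Fin 4, (v01 k)⁻¹ * a ∈ T4 := by
  have e : W.fl (![1, 1, 0, 0, 0, 0] ∘ a.1.p.symm) = W.fl (![1, 1, 0, 0, 0, 0] : Fin 6 → ZMod 2) := by
    rw [← W.conj_fl a.1, mul_inv_eq_iff_eq_mul]
    exact congrArg Subtype.val h1
  have hmap : ∀ i : Fin 6, (i.val < 2 ↔ (a.1.p i).val < 2) := by
    intro i
    have h' := congrFun (W.fl_inj.1 e) (a.1.p i)
    rw [Function.comp_apply, Equiv.symm_apply_apply] at h'
    exact (by decide : ∀ i j : Fin 6, (![1, 1, 0, 0, 0, 0] : Fin 6 → ZMod 2) i = ![1, 1, 0, 0, 0, 0] j →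
      (i.val < 2 ↔ j.val < 2)) i _ h'
  have hv : a.1.v 0 = a.1.v 1 := by
    have h' := congrArg Subtype.val h2
    have e0 := congrFun (congrArg W.v h') 0
    have e1 := congrFun (congrArg W.v h') (a.1.p 0)
    have hc := (hmap 0).1 (by decide)
    rcases (by decide : ∀ j : Fin 6, j.val < 2 → j = 0 ∨ j = 1) _ hc with e4 | e4 <;>
      simp [pm0, e4] at e0 e1 ⊢ <;> exact e0
  have hpp : (a.1.p 0 = 0 ∧ a.1.p 1 = 1) ∨ (a.1.p 0 = 1 ∧ a.1.p 1 = 0) :=
    (by decide : ∀ i j : Fin 6, i.val < 2 → j.val < 2 → i ≠ j → (i = 0 ∧ j = 1) ∨ (i = 1 ∧ j = 0)) _ _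
      ((hmap 0).1 (by decide)) ((hmap 1).1 (by decide)) (a.1.p.injective.ne (by decide))
  obtain ⟨k, hk⟩ := split01_raw a.1.p ⟨hpp, fun i hi => by
      by_contra hlt
      have := (hmap i).2 (by omega)
      omega⟩ a.1.v ⟨by simpa [W.par] using mem_W0.1 a.2, hv⟩
  exact ⟨k, hk⟩

theorem perm_facts :
    c012 * std a45 = std a45 * c012 ∧ c012 * std a23 = std a23 * c012 ∧ c012 * std b23 = std b23 * c012 ∧
    c01z * std a23 = std a23 * c01z ∧ c01z * std b23 = std b23 * c01z ∧ c012 * c012 * c012 = 1 ∧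
    c01z * c01z * c01z = 1 ∧ c01z ≠ 1 ∧ (c012 * c01z) * (c012 * c01z) = 1 ∧
    (c012 * c01z⁻¹) * (c012 * c01z⁻¹) ≠ 1 ∧
    (∀ k : Fin 4, ∃ k' : Fin 4, c012 * std (v01 k) * c012⁻¹ = std (v01 k') ∧ (k ≠ 0 → k' ≠ 0)) ∧
    (∀ k : Fin 4, ∃ k' : Fin 4, c012⁻¹ * std (v01 k) * c012 = std (v01 k') ∧ (k ≠ 0 → k' ≠ 0)) := by
  repeat' refine And.intro ?_ ?_
  all_goals decide +kernel

theorem sigma_sq {σ : P13} (hf : ∀ i : Fin 13, 8 ≤ i.val → σ i = i)
    (h1 : ∀ k : Fin 4, σ * std (v01 k) = std (v01 k) * σ)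
    (h2 : σ * std a23 = std a23 * σ) (h3 : σ * std b23 = std b23 * σ) : σ * σ = 1 := by
  have h4 : σ * std (a23 * b23) = std (a23 * b23) * σ := by
    rw [map_mul, ← mul_assoc, h2, mul_assoc, h3, ← mul_assoc]
  have blk : ∀ (o : Fin 13) (u : Fin 4 → ↥W0) (j₀ : Fin 4),
      (∀ k, σ * std (u k) = std (u k) * σ) → (∀ i : Fin 13, std (u j₀) i ≠ i → ∃ k, std (u k) o = i) →
      (∀ k, std (u k) (std (u k) o) = o) → std (u j₀) o ≠ o → ∀ k, σ (σ (std (u k) o)) = std (u k) o := by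
    intro o u j₀ hc hcover hsq hmove k
    have key : ∀ k i, σ (std (u k) i) = std (u k) (σ i) := fun k i => DFunLike.congr_fun (hc k) i
    obtain ⟨j, hj⟩ := hcover (σ o) (fun e => hmove (σ.injective (by rw [key, e])))
    rw [key, key, ← hj, key, ← hj, hsq]
  refine Equiv.ext fun i => ?_
  rw [Perm.mul_apply, Perm.one_apply]
  by_cases hi : 8 ≤ i.val
  · rw [hf i hi, hf i hi]
  obtain ⟨k, rfl⟩ | ⟨k, rfl⟩ := (by decide +kernel : ∀ i : Fin 13, ¬8 ≤ i.val →
    (∃ k, std (v01 k) 0 = i) ∨ ∃ k, std ((![1, a23, b23, a23 * b23] : Fin 4 → ↥W0) k) 4 = i) i hi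
  · exact blk 0 v01 1 h1 (by decide +kernel) (by decide +kernel) (by decide +kernel) k
  · refine blk 4 ![1, a23, b23, a23 * b23] 1 (fun k => ?_) (by decide +kernel) (by decide +kernel)
      (by decide +kernel) k
    fin_cases k
    · simp
    · exact h2
    · exact h3
    · exact h4

variable {G : Type*} [Group G] [Finite G] {d : Dat G} (hd : ∀ a, d.Fused a ↔ a * a = 1 ∧ Dat.P27 a.1)
  {full : Bool} (ψ : ↥(H45 full) →* G)
  (agree : ∀ a : ↥W0, ∀ h : std a ∈ H45 full, ψ ⟨std a, h⟩ = d.emb a)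
  (comm_a : ∀ g, ψ g * d.emb a45 = d.emb a45 * ψ g)
  (comm_b : ∀ g, ψ g * d.emb b45 = d.emb b45 * ψ g)

include agree in
theorem psi_comm {g : ↥(H45 full)} {a : ↥W0} (h : std a ∈ H45 full) (e : g.1 * std a = std a * g.1) :
    ψ g * d.emb a = d.emb a * ψ g := by
  rw [← agree a h, ← map_mul, ← map_mul]
  exact congrArg ψ (Subtype.ext e)

theorem std_mem_H45 {a : ↥W0} (he : Perm.sign (std a) = 1) (hf : ∀ j : Fin 13, 8 ≤ j.val → std a j = j)
    (full : Bool) : std a ∈ H45 full := by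
  refine mem_H45.2 ⟨?_, fun j h1 _ => hf j h1⟩
  cases full
  · exact ⟨Perm.mem_alternatingGroup.2 he, MulAction.mem_stabilizer_iff.2 (std_last _)⟩
  · exact Perm.mem_alternatingGroup.2 he

theorem small_facts : (∀ k : Fin 4, Perm.sign (std (v01 k)) = 1 ∧ ∀ j : Fin 13, 8 ≤ j.val → std (v01 k) j = j) ∧
    (Perm.sign (std a23) = 1 ∧ ∀ j : Fin 13, 8 ≤ j.val → std a23 j = j) ∧
    (Perm.sign (std b23) = 1 ∧ ∀ j : Fin 13, 8 ≤ j.val → std b23 j = j) := by
  repeat' refine And.intro ?_ ?_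
  all_goals decide +kernel

include hd agree comm_a comm_b in
/-- The three-cycle on the first three points centralises the model on the last four pairs. -/
theorem comm_c012 (g : ↥(H45 full)) (hg : g.1 = c012) {a : ↥W0} (ha : a ∈ T4) :
    ψ g * d.emb a = d.emb a * ψ g := by
  obtain ⟨p1, p2, p3, p4, p5, p6, p7, p8, p9, p10, p11, p12⟩ := perm_facts
  obtain ⟨sv, sa, sb⟩ := small_facts
  set τ := ψ g with hτ
  have hv : ∀ k, std (v01 k) ∈ H45 full := fun k => std_mem_H45 (sv k).1 (sv k).2 full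
  have hma := std_mem_H45 sa.1 sa.2 full
  have hmb := std_mem_H45 sb.1 sb.2 full
  have ca : τ * d.emb a23 = d.emb a23 * τ := psi_comm ψ agree hma (by rw [hg]; exact p2)
  have cb : τ * d.emb b23 = d.emb b23 * τ := psi_comm ψ agree hmb (by rw [hg]; exact p3)
  have hnorm : ∀ k, ∃ k', τ * d.emb (v01 k) * τ⁻¹ = d.emb (v01 k') ∧ (k ≠ 0 → k' ≠ 0) := fun k => by
    obtain ⟨k', e, hne⟩ := p11 k
    refine ⟨k', ?_, hne⟩
    rw [hτ, ← agree _ (hv k), ← agree _ (hv k'), ← map_inv, ← map_mul, ← map_mul]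
    refine congrArg ψ (Subtype.ext ?_)
    simp only [Subgroup.coe_mul, InvMemClass.coe_inv, hg]
    exact e
  have hnorm' : ∀ k, ∃ k', τ⁻¹ * d.emb (v01 k) * τ = d.emb (v01 k') := fun k => by
    obtain ⟨k', e, -⟩ := p12 k
    refine ⟨k', ?_⟩
    rw [hτ, ← agree _ (hv k), ← agree _ (hv k'), ← map_inv, ← map_mul, ← map_mul]
    refine congrArg ψ (Subtype.ext ?_)
    simp only [Subgroup.coe_mul, InvMemClass.coe_inv, hg]
    exact e
  have cs : τ * d.emb (a23 * a45) = d.emb (a23 * a45) * τ := by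
    rw [map_mul, ← mul_assoc, ca, mul_assoc, comm_a, ← mul_assoc]
  -- into the product
  have hsplit : ∀ a ∈ T4, ∃ k : Fin 4, ∃ c ∈ T4, τ * d.emb a * τ⁻¹ = d.emb (v01 k * c) := by
    intro a ha
    have hts : a * (a23 * a45) = a23 * a45 * a := by
      have hle : T4 ≤ centralizer ({a23 * a45} : Set ↥W0) := by
        refine T4_le ?_ ?_ ?_ ?_ <;> rw [mem_centralizer_singleton_iff] <;>
          exact Subtype.ext (by decide +kernel)
      exact mem_centralizer_singleton_iff.1 (hle ha)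
    have hc : ∀ w : G, d.emb a * (τ⁻¹ * w * τ) = (τ⁻¹ * w * τ) * d.emb a →
        τ * d.emb a * τ⁻¹ * w = w * (τ * d.emb a * τ⁻¹) := fun w hw => by
      calc τ * d.emb a * τ⁻¹ * w = τ * (d.emb a * (τ⁻¹ * w * τ)) * τ⁻¹ := by group
        _ = _ := by rw [hw]; group
    have cv : ∀ k, τ * d.emb a * τ⁻¹ * d.emb (v01 k) = d.emb (v01 k) * (τ * d.emb a * τ⁻¹) := fun k => by
      obtain ⟨k', e⟩ := hnorm' k
      exact hc _ (by rw [e, ← map_mul, T4_comm_v01 ha k', map_mul])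
    have cs' : τ * d.emb a * τ⁻¹ * d.emb (a23 * a45) = d.emb (a23 * a45) * (τ * d.emb a * τ⁻¹) :=
      hc _ (by rw [mul_assoc, ← cs, inv_mul_cancel_left, ← map_mul, hts, map_mul])
    have ez : z0 = v01 1 * (a23 * a45) := Subtype.ext (by decide +kernel)
    obtain ⟨a', ha'⟩ := d.mem_range (show τ * d.emb a * τ⁻¹ * d.t = d.t * (τ * d.emb a * τ⁻¹) by
      rw [show d.t = d.emb z0 from rfl, ez, map_mul, ← mul_assoc, cv, mul_assoc, cs', ← mul_assoc])
    obtain ⟨k, hk⟩ := split01 (a := a') (d.inj (by rw [map_mul, map_mul, ha']; exact cv 1))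
      (d.inj (by rw [map_mul, map_mul, ha']; exact cv 2))
    exact ⟨k, _, hk, by rw [mul_inv_cancel_left, ha']⟩
  -- the elements sent into the model exactly
  let K : Subgroup ↥W0 :=
    { carrier := {a | a ∈ T4 ∧ ∃ c ∈ T4, τ * d.emb a * τ⁻¹ = d.emb c}
      mul_mem' := by
        rintro a b ⟨ha, c, hc, ea⟩ ⟨hb, e, he, eb⟩
        refine ⟨mul_mem ha hb, c * e, mul_mem hc he, ?_⟩
        rw [map_mul, map_mul, ← ea, ← eb]
        group
      one_mem' := ⟨one_mem _, 1, one_mem _, by simp⟩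
      inv_mem' := by
        rintro a ⟨ha, c, hc, ea⟩
        refine ⟨inv_mem ha, c⁻¹, inv_mem hc, ?_⟩
        rw [map_inv, map_inv, ← ea]
        group }
  have mem4 : b45 ∈ T4 ∧ b23 ∈ T4 ∧ a45 ∈ T4 ∧ pm0 (swap 2 4) ∈ T4 := by
    refine ⟨?_, ?_, ?_, ?_⟩ <;>
    · show ∀ i : Fin 13, i.val < 4 → _
      decide +kernel
  have fixed : ∀ {a}, a ∈ T4 → τ * d.emb a = d.emb a * τ → a ∈ K := fun {a} ha e =>
    ⟨ha, a, ha, by rw [e, mul_inv_cancel_right]⟩
  have h25 : pm0 (swap 2 5) ∈ K := by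
    rw [tg_conj.2.2.2.2.2.1]
    obtain ⟨k, c, hc, ec⟩ := hsplit _ mem4.2.2.2
    refine ⟨mul_mem (mul_mem mem4.2.2.2 mem4.1) (inv_mem mem4.2.2.2), c * b45 * c⁻¹,
      mul_mem (mul_mem hc mem4.1) (inv_mem hc), ?_⟩
    have hb : τ * d.emb b45 * τ⁻¹ = d.emb b45 := by rw [comm_b, mul_inv_cancel_right]
    have hcomm : v01 k * (c * b45 * c⁻¹) = c * b45 * c⁻¹ * v01 k := by
      exact (T4_comm_v01 (mul_mem (mul_mem hc mem4.1) (inv_mem hc)) k).symm
    calc τ * d.emb (pm0 (swap 2 4) * b45 * (pm0 (swap 2 4))⁻¹) * τ⁻¹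
        = τ * d.emb (pm0 (swap 2 4)) * τ⁻¹ * (τ * d.emb b45 * τ⁻¹) * (τ * d.emb (pm0 (swap 2 4)) * τ⁻¹)⁻¹ := by
          rw [map_mul, map_mul, map_inv]; group
      _ = d.emb (v01 k * (c * b45 * c⁻¹) * (v01 k)⁻¹) := by
          rw [hb, ec, ← map_inv, ← map_mul, ← map_mul]; congr 1; group
      _ = _ := by rw [hcomm, mul_inv_cancel_right]
  have hK : T4 ≤ K := T4_le (fixed mem4.1 (comm_b g)) h25 (fixed mem4.2.1 cb) (fixed mem4.2.2.1 (comm_a g))
  choose φ hφ using fun a : ↥T4 => (hK a.2).2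
  have φmul : ∀ a b, φ (a * b) = φ a * φ b := fun a b => d.inj (by
    rw [map_mul, ← (hφ _).2, ← (hφ a).2, ← (hφ b).2, Subgroup.coe_mul, map_mul]
    group)
  let toT4 : ↥T8 → ↥T4 := fun a => ⟨pi04 * a.1 * pi04⁻¹, pi_T8 a.2⟩
  let f : ↥T8 →* P13 :=
    { toFun := fun a => std (pi04⁻¹ * φ (toT4 a) * pi04)
      map_one' := by
        have : φ (toT4 1) = 1 := d.inj (by rw [← (hφ _).2]; simp [toT4])
        rw [this]; simp
      map_mul' := fun a b => by
        rw [← map_mul, show toT4 (a * b) = toT4 a * toT4 b from Subtype.ext (by simp [toT4]), φmul]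
        congr 1
        group }
  obtain ⟨σ, hσf, -, hσ⟩ := aut_T8 f (fun a i hi => pi_T4 (hφ _).1 i hi)
    (fun a => by
      have : ∀ c ∈ T8, std c * ss = ss * std c := fun c hc => by
        have hle : T8 ≤ (centralizer ({ss} : Set P13)).comap std :=
          T8_closure fun k => by
            rw [mem_comap, mem_centralizer_singleton_iff]; revert k; decide +kernel
        exact mem_centralizer_singleton_iff.1 (hle hc)
      exact this _ (pi_T4 (hφ _).1))
    (fun a ha => by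
      show (std (pi04⁻¹ * φ (toT4 a) * pi04)).support.card = _
      have conj : ∀ c : ↥W0, (std (pi04⁻¹ * c * pi04)).support.card = (std c).support.card := fun c => by
        rw [map_mul, map_mul, map_inv, ← Perm.card_support_conj (σ := std pi04)]
        congr 2
        group
      rw [conj]
      set b := toT4 a with hb
      have hb2 : b.1 * b.1 = 1 := by
        show pi04 * a.1 * pi04⁻¹ * (pi04 * a.1 * pi04⁻¹) = 1
        rw [show pi04 * a.1 * pi04⁻¹ * (pi04 * a.1 * pi04⁻¹) = pi04 * (a.1 * a.1) * pi04⁻¹ by group,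
          show a.1 * a.1 = 1 from congrArg Subtype.val ha, mul_one, mul_inv_cancel]
      have ea : (std b.1).support.card = (std a.1).support.card := by
        rw [← conj b.1]
        congr 3
        show pi04⁻¹ * (pi04 * a.1 * pi04⁻¹) * pi04 = a.1
        group
      rw [← ea]
      by_cases hb1 : b.1 = 1
      · have : φ b = 1 := d.inj (by rw [← (hφ _).2, hb1]; simp)
        rw [this, hb1]
      have hc2 : φ b * φ b = 1 := d.inj (by
        rw [map_mul, map_one, ← (hφ _).2,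
          show τ * d.emb b.1 * τ⁻¹ * (τ * d.emb b.1 * τ⁻¹) = τ * (d.emb b.1 * d.emb b.1) * τ⁻¹ by group,
          ← map_mul, hb2, map_one, mul_one, mul_inv_cancel])
      have hc1 : φ b ≠ 1 := fun e => hb1 (d.inj (by
        rw [map_one]
        have := (hφ b).2
        rw [e, map_one] at this
        calc d.emb b.1 = τ⁻¹ * (τ * d.emb b.1 * τ⁻¹) * τ := by group
          _ = 1 := by rw [this, mul_one, inv_mul_cancel]))
      obtain ⟨k', ek, hk'⟩ := hnorm 1
      have hk1 : k' ≠ 0 := hk' (by decide)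
      have hcomm : ∀ c ∈ T4, ∀ k, c * v01 k = v01 k * c := fun c hc k => T4_comm_v01 hc k
      have hfused : d.Fused (b.1 * v01 1) ↔ d.Fused (φ b * v01 k') := by
        have e : τ * d.emb (b.1 * v01 1) * τ⁻¹ = d.emb (φ b * v01 k') := by
          rw [map_mul d.emb b.1, map_mul d.emb (φ b), ← ek, ← (hφ b).2]
          group
        constructor
        · rintro ⟨x, hx⟩
          exact ⟨τ * x, by rw [← e, ← hx]; group⟩
        · rintro ⟨x, hx⟩
          refine ⟨τ⁻¹ * x, ?_⟩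
          rw [show τ⁻¹ * x * d.t * (τ⁻¹ * x)⁻¹ = τ⁻¹ * (x * d.t * x⁻¹) * τ by group, hx, ← e]
          group
      have sq : ∀ c ∈ T4, c * c = 1 → ∀ k, c * v01 k * (c * v01 k) = 1 := fun c hc h2 k => by
        rw [mul_assoc, ← mul_assoc (v01 k) c, ← hcomm c hc k, mul_assoc c (v01 k), ← mul_assoc, h2, one_mul]
        revert k
        intro k
        fin_cases k <;> exact Subtype.ext (by decide +kernel)
      rw [hd, hd] at hfused
      rcases T4_type b.2 hb2 hb1 (k := 1) (by decide) with ⟨h4, hn⟩ | ⟨h8, hp⟩ <;>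
        rcases T4_type (hφ b).1 hc2 hc1 hk1 with ⟨h4', hn'⟩ | ⟨h8', hp'⟩
      · rw [h4, h4']
      · exact absurd (hfused.2 ⟨sq _ (hφ b).1 hc2 k', hp'⟩).2 hn
      · exact absurd (hfused.1 ⟨sq _ b.2 hb2 1, hp⟩).2 hn'
      · rw [h8, h8'])
  -- fixed elements give commuting conjugators
  have hfixσ : ∀ c : ↥W0, c ∈ T8 → τ * d.emb (pi04 * c * pi04⁻¹) = d.emb (pi04 * c * pi04⁻¹) * τ →
      σ * std c = std c * σ := by
    intro c hc e
    have := hσ ⟨c, hc⟩
    have eφ : φ (toT4 ⟨c, hc⟩) = pi04 * c * pi04⁻¹ := d.inj (by rw [← (hφ _).2, e, mul_inv_cancel_right])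
    change std (pi04⁻¹ * φ (toT4 ⟨c, hc⟩) * pi04) = _ at this
    rw [eφ, show pi04⁻¹ * (pi04 * c * pi04⁻¹) * pi04 = c by group] at this
    exact mul_inv_eq_iff_eq_mul.1 this.symm
  have inT8 : ∀ k, v01 k ∈ T8 := fun k => (sv k).2
  have hpi : pi04 * f01 * pi04⁻¹ = a45 ∧ pi04 * pm0 (swap 0 1) * pi04⁻¹ = b45 ∧
      pi04 * a23 * pi04⁻¹ = a23 ∧ pi04 * b23 * pi04⁻¹ = b23 := by
    refine ⟨?_, ?_, ?_, ?_⟩ <;> exact Subtype.ext (by decide +kernel)
  have c1 := hfixσ f01 (inT8 1) (by rw [hpi.1]; exact comm_a g)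
  have c2 := hfixσ (pm0 (swap 0 1)) (inT8 2) (by rw [hpi.2.1]; exact comm_b g)
  have c23a := hfixσ a23 sa.2 (by rw [hpi.2.2.1]; exact ca)
  have c23b := hfixσ b23 sb.2 (by rw [hpi.2.2.2]; exact cb)
  have hσ2 : σ * σ = 1 := sigma_sq hσf (fun k => by
    fin_cases k
    · simp [v01]
    · exact c1
    · exact c2
    · show σ * std (f01 * pm0 (swap 0 1)) = std (f01 * pm0 (swap 0 1)) * σ
      rw [map_mul, ← mul_assoc, c1, mul_assoc, c2, ← mul_assoc]) c23a c23b
  -- order three and two give one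
  have hφ2 : ∀ b : ↥T4, φ ⟨φ b, (hφ b).1⟩ = b.1 := by
    intro b
    have hb8 : pi04⁻¹ * b.1 * pi04 ∈ T8 := pi_T4 b.2
    have e1 := hσ ⟨_, hb8⟩
    have e2 := hσ ⟨_, pi_T4 (hφ b).1⟩
    have t1 : toT4 ⟨_, hb8⟩ = b := Subtype.ext (by simp [toT4]; group)
    have t2 : toT4 ⟨_, pi_T4 (hφ b).1⟩ = ⟨φ b, (hφ b).1⟩ := Subtype.ext (by simp [toT4]; group)
    change std (pi04⁻¹ * φ (toT4 ⟨_, hb8⟩) * pi04) = _ at e1
    change std (pi04⁻¹ * φ (toT4 ⟨_, pi_T4 (hφ b).1⟩) * pi04) = _ at e2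
    rw [t1] at e1
    rw [t2, e1] at e2
    have : pi04⁻¹ * φ ⟨φ b, (hφ b).1⟩ * pi04 = pi04⁻¹ * b.1 * pi04 := std_injective (by
      rw [e2, show σ * (σ * std (pi04⁻¹ * b.1 * pi04) * σ⁻¹) * σ⁻¹ =
        σ * σ * std (pi04⁻¹ * b.1 * pi04) * (σ * σ)⁻¹ by group, hσ2, one_mul, inv_one, mul_one])
    exact mul_left_cancel (mul_right_cancel this)
  have h3 : τ * τ * τ = 1 := by
    rw [hτ, ← map_mul, ← map_mul, ← map_one ψ]
    exact congrArg ψ (Subtype.ext (by rw [Subgroup.coe_mul, Subgroup.coe_mul, hg]; exact p6))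
  let b : ↥T4 := ⟨a, ha⟩
  have e2 : τ * (τ * d.emb a * τ⁻¹) * τ⁻¹ = d.emb a := by
    rw [show d.emb a = d.emb b.1 from rfl, (hφ b).2, (hφ ⟨φ b, (hφ b).1⟩).2, hφ2 b]
  calc τ * d.emb a = τ * (τ * τ * τ)⁻¹ * (τ * (τ * d.emb a * τ⁻¹) * τ⁻¹) * (τ * τ * τ) := by
        rw [e2, h3]; group
    _ = τ⁻¹ * (τ⁻¹ * (τ * (τ * d.emb a * τ⁻¹) * τ⁻¹)) * (τ * τ) * τ := by group
    _ = _ := by group

/-- The four-group of the last two pairs. -/
def v45 : Fin 4 → ↥W0 := ![1, a45, b45, c45]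

theorem v45_mul : ∀ i j : Fin 4, ∃ l : Fin 4, v45 i * v45 j = v45 l := by
  simp only [Subtype.ext_iff, Subgroup.coe_mul]
  decide +kernel

theorem v45_inv : ∀ i : Fin 4, v45 i * v45 i = 1 := by
  simp only [Subtype.ext_iff, Subgroup.coe_mul]
  decide +kernel

/-- Permutations of the eight or nine points with the three-cycle behaviour of the one through the last point. -/
theorem eq_c01z {k : ↥(H45 full)} (h3 : k.1 * k.1 * k.1 = 1) (hne : k.1 ≠ 1)
    (hc : ∀ i j l : Fin 13, 2 ≤ i.val → i.val < 8 → 2 ≤ j.val → j.val < 8 → 2 ≤ l.val → l.val < 8 → i ≠ j →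
      j ≠ l → i ≠ l → k.1 * (swap i j * swap j l) = swap i j * swap j l * k.1)
    (hr : (c012 * k.1) * (c012 * k.1) = 1) : k.1 = c01z := by
  obtain ⟨hk1, hk8⟩ := mem_H45.1 k.2
  have fix : ∀ i : Fin 13, 2 ≤ i.val → i.val < 12 → k.1 i = i := by
    intro i h2 h12
    by_cases h8 : 8 ≤ i.val
    · exact hk8 i h8 h12
    obtain ⟨j, l, j', l', hj, hj', hl, hl', hi', hjl, hset⟩ :=
      (by decide +kernel : ∀ i : Fin 13, 2 ≤ i.val → ¬8 ≤ i.val → ∃ j l j' l' : Fin 13,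
        (2 ≤ j.val ∧ j.val < 8 ∧ 2 ≤ j'.val ∧ j'.val < 8) ∧ (2 ≤ l.val ∧ l.val < 8) ∧
        (2 ≤ l'.val ∧ l'.val < 8) ∧ (i ≠ j ∧ j ≠ l ∧ i ≠ l) ∧ (i ≠ j' ∧ j' ≠ l' ∧ i ≠ l') ∧
        (j ≠ j' ∧ j ≠ l') ∧ (l ≠ j' ∧ l ≠ l')) i h2 h8
    have key : ∀ j l : Fin 13, 2 ≤ j.val → j.val < 8 → 2 ≤ l.val → l.val < 8 → i ≠ j → j ≠ l → i ≠ l →
        k.1 i = i ∨ k.1 i = j ∨ k.1 i = l := by
      intro j l a1 a2 a3 a4 a5 a6 a7
      have e := DFunLike.congr_fun (hc i j l h2 (by omega) a1 a2 a3 a4 a5 a6 a7) i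
      change k.1 ((swap i j * swap j l) i) = (swap i j * swap j l) (k.1 i) at e
      by_contra hh
      push Not at hh
      have : (swap i j * swap j l) (k.1 i) = k.1 i := by
        rw [Perm.mul_apply, swap_apply_of_ne_of_ne hh.2.1 hh.2.2, swap_apply_of_ne_of_ne hh.1 hh.2.1]
      rw [this] at e
      have := k.1.injective e
      rw [Perm.mul_apply, swap_apply_of_ne_of_ne a5 a7, swap_apply_left] at this
      exact a5 this.symm
    rcases key j l hj.1 hj.2.1 hj'.1 hj'.2 hl'.1 hl'.2.1 hl'.2.2 with h | h | h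
    · exact h
    all_goals
      rcases key j' l' hj.2.2.1 hj.2.2.2 hl.1 hl.2 hi'.1 hi'.2.1 hi'.2.2 with h' | h' | h'
      · exact h'
      all_goals exact absurd (h.symm.trans h') (by first | exact hjl.1 | exact hjl.2 | exact hset.1 | exact hset.2)
  -- what remains are three points
  set n := k.1 0 with hn
  have inj := k.1.injective
  have low : ∀ i : Fin 13, ¬(2 ≤ i.val ∧ i.val < 12) → ¬(2 ≤ (k.1 i).val ∧ (k.1 i).val < 12) :=
    fun i hi h => hi (inj (fix _ h.1 h.2) ▸ h)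
  have pts : ∀ i : Fin 13, ¬(2 ≤ i.val ∧ i.val < 12) → i = 0 ∨ i = 1 ∨ i = 12 := by decide
  have h0 := pts _ (low 0 (by decide))
  have h1 := pts _ (low 1 (by decide))
  have h2 := pts _ (low 12 (by decide))
  have hall : ∀ i, k.1 i = if i = 0 then k.1 0 else if i = 1 then k.1 1 else if i = 12 then k.1 12 else i := by
    intro i
    split_ifs with a b c
    · rw [a]
    · rw [b]
    · rw [c]
    · refine fix i ?_ ?_ <;> (have := pts i; omega)
  have cases3 : ∀ a b c : Fin 13, (a = 0 ∨ a = 1 ∨ a = 12) → (b = 0 ∨ b = 1 ∨ b = 12) → (c = 0 ∨ c = 1 ∨ c = 12) →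
      a ≠ b → b ≠ c → a ≠ c →
      ((∀ i : Fin 13, (if i = 0 then a else if i = 1 then b else if i = 12 then c else i) = (1 : P13) i) ∨
        (∀ i : Fin 13, (if i = 0 then a else if i = 1 then b else if i = 12 then c else i) = c01z i) ∨
        (∀ i : Fin 13, (if i = 0 then a else if i = 1 then b else if i = 12 then c else i) = c01z⁻¹ i) ∨
        (∀ i : Fin 13, (if i = 0 then a else if i = 1 then b else if i = 12 then c else i) = swap 0 1 i) ∨
        (∀ i : Fin 13, (if i = 0 then a else if i = 1 then b else if i = 12 then c else i) = swap 0 12 i) ∨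
        (∀ i : Fin 13, (if i = 0 then a else if i = 1 then b else if i = 12 then c else i) = swap 1 12 i)) := by
    decide +kernel
  rcases cases3 _ _ _ h0 h1 h2 (inj.ne (by decide)) (inj.ne (by decide)) (inj.ne (by decide)) with
    h | h | h | h | h | h
  all_goals have e := Equiv.ext fun i => (hall i).trans (h i)
  · exact absurd e hne
  · exact e
  · rw [e] at hr; exact absurd hr perm_facts.2.2.2.2.2.2.2.2.2.1
  all_goals
    rw [e] at h3
    exact absurd h3 (by decide +kernel)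

theorem cycle_swap45 : ∀ i j l : Fin 13, 2 ≤ i.val → i.val < 8 → 2 ≤ j.val → j.val < 8 → 2 ≤ l.val → l.val < 8 →
    i ≠ j → j ≠ l → i ≠ l → c01z * (swap i j * swap j l) = swap i j * swap j l * c01z ∧
      Perm.sign (swap i j * swap j l) = 1 ∧
      (∀ m : Fin 13, 8 ≤ m.val → (swap i j * swap j l) m = m) ∧
      swap 4 5 * (swap i j * swap j l) * swap 4 5 =
        swap (swap 4 5 i) (swap 4 5 j) * swap (swap 4 5 j) (swap 4 5 l) := by
  intro i j l a1 a2 a3 a4 a5 a6 a7 a8 a9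
  refine ⟨?_, ?_, fun m hm => ?_, ?_⟩
  · have d : ∀ x : Fin 13, 2 ≤ x.val → x.val < 8 → c01z x = x := by decide +kernel
    have h1 : c01z * swap i j = swap i j * c01z := by rw [mul_swap_eq_swap_mul, d i a1 a2, d j a3 a4]
    have h2 : c01z * swap j l = swap j l * c01z := by rw [mul_swap_eq_swap_mul, d j a3 a4, d l a5 a6]
    rw [← mul_assoc, h1, mul_assoc, h2, ← mul_assoc]
  · rw [map_mul, Perm.sign_swap a7, Perm.sign_swap a8]; rfl
  · rw [Perm.mul_apply, swap_apply_of_ne_of_ne (a := j) (b := l) (by rintro rfl; omega) (by rintro rfl; omega),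
      swap_apply_of_ne_of_ne (by rintro rfl; omega) (by rintro rfl; omega)]
  · rw [swap_apply_apply (swap 4 5) i j, swap_apply_apply (swap 4 5) j l, swap_inv]
    simp only [mul_assoc, swap_mul_self_mul]

/-- The flip of the third and fifth pairs. -/
def w24 : ↥W0 := ⟨W.fl ![0, 0, 1, 0, 1, 0], mem_W0.2 (by decide +kernel)⟩

theorem w24_facts : w24 * a45 = a45 * w24 ∧ w24 * b45 * w24⁻¹ = c45 ∧ w24 ∈ T4 ∧ w24 * w24 = 1 ∧
    (∀ k : Fin 4, std (w24 * tg k * w24⁻¹) = swap 4 5 * std (tg k) * swap 4 5 ∧ w24 * tg k * w24⁻¹ ∈ T8) ∧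
    swap 4 5 * c012 * swap 4 5 = c012 ∧
    pm0 (swap 2 5) * a45 * (pm0 (swap 2 5))⁻¹ = w24 ∧ pm0 (swap 2 5) * b45 * (pm0 (swap 2 5))⁻¹ = pm0 (swap 2 4) := by
  refine ⟨Subtype.ext (by decide +kernel), Subtype.ext (by decide +kernel), ?_, Subtype.ext (by decide +kernel),
    fun k => ⟨?_, ?_⟩, ?_, Subtype.ext (by decide +kernel), Subtype.ext (by decide +kernel)⟩
  · show ∀ i : Fin 13, i.val < 4 → _
    decide +kernel
  · revert k; decide +kernel
  · show ∀ i : Fin 13, 8 ≤ i.val → _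
    revert k; decide +kernel
  · decide +kernel

theorem T8_sign {a : ↥W0} (h : a ∈ T8) : Perm.sign (std a) = 1 := by
  have hle : T8 ≤ (Perm.sign.comp std).ker :=
    T8_closure fun k => (by decide +kernel : ∀ k, Perm.sign (std (tg k)) = 1) k
  exact hle h

variable (hinj : Function.Injective ψ)
  (hCVle : CV d ≤ ψ.range ⊔ closure ({d.emb a45, d.emb b45} : Set G))
  (hodd : Odd ((centralizer ({d.t} : Set G)).relIndex (CV d)))
  (hcls : ∀ a : ↥W0, a * a45 = a45 * a → a * b45 = b45 * a → a * a = 1 → Dat.P27 a.1 → ¬Dat.P27 (a * a45).1 →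
    d.emb a ∈ Kset d)

include comm_a comm_b hCVle in
theorem CV_split {m : G} (hm : m ∈ CV d) : ∃ k j, m = ψ k * d.emb (v45 j) := by
  have hcomm : ∀ g j, d.emb (v45 j) * ψ g = ψ g * d.emb (v45 j) := fun g j => by
    fin_cases j
    · simp [v45]
    · exact (comm_a g).symm
    · exact (comm_b g).symm
    · show d.emb c45 * ψ g = ψ g * d.emb c45
      rw [c45, map_mul, mul_assoc, ← comm_b, ← mul_assoc, ← comm_a, mul_assoc]
  let S : Subgroup G :=
    { carrier := {m | ∃ k j, m = ψ k * d.emb (v45 j)}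
      mul_mem' := by
        rintro _ _ ⟨k, j, rfl⟩ ⟨k', j', rfl⟩
        obtain ⟨l, hl⟩ := v45_mul j j'
        refine ⟨k * k', l, ?_⟩
        rw [← hl, map_mul, map_mul]
        calc ψ k * d.emb (v45 j) * (ψ k' * d.emb (v45 j'))
            = ψ k * (d.emb (v45 j) * ψ k') * d.emb (v45 j') := by group
          _ = _ := by rw [hcomm]; group
      one_mem' := ⟨1, 0, by simp [v45]⟩
      inv_mem' := by
        rintro _ ⟨k, j, rfl⟩
        refine ⟨k⁻¹, j, ?_⟩
        rw [mul_inv_rev, ← map_inv, ← map_inv ψ, inv_eq_of_mul_eq_one_right (v45_inv j), hcomm] }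
  refine (sup_le ?_ ((closure_le S).2 ?_) : ψ.range ⊔ _ ≤ S) (hCVle hm)
  · rintro _ ⟨k, rfl⟩
    exact ⟨k, 0, by simp [v45]⟩
  · rintro _ (rfl | rfl)
    · exact ⟨1, 1, by simp [v45]⟩
    · exact ⟨1, 2, by simp [v45]⟩

include hd agree comm_a comm_b hinj hCVle hodd hcls in
/-- The three-cycle through the last point centralises the model on the last four pairs. -/
theorem comm_c01z (g : ↥(H45 full)) (hg : g.1 = c01z) {a : ↥W0} (ha : a ∈ T4) :
    ψ g * d.emb a = d.emb a * ψ g := by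
  obtain ⟨p1, p2, p3, p4, p5, p6, p7, p8, p9, p10, p11, p12⟩ := perm_facts
  obtain ⟨w1, w2, w3, w4, w5, w6, w7, w8⟩ := w24_facts
  obtain ⟨-, sa, sb⟩ := small_facts
  set c' := ψ g with hc'
  have g3 : g * g * g = 1 := Subtype.ext (by
    rw [Subgroup.coe_mul, Subgroup.coe_mul, hg]; exact p7)
  have hwinv : (d.emb w24)⁻¹ = d.emb w24 := inv_eq_of_mul_eq_one_right (by rw [← map_mul, w4, map_one])
  set m := d.emb w24 * c' * (d.emb w24)⁻¹ with hm
  have hmCV : m ∈ CV d := by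
    have ha' : d.emb w24 * d.emb a45 * (d.emb w24)⁻¹ = d.emb a45 := by
      rw [← map_mul, w1, map_mul, mul_inv_cancel_right]
    have hb' : d.emb w24 * d.emb c45 * (d.emb w24)⁻¹ = d.emb b45 := by
      rw [← map_inv, ← map_mul, ← map_mul]
      exact congrArg d.emb (Subtype.ext (by decide +kernel))
    have hc : c' * d.emb c45 = d.emb c45 * c' := by
      rw [c45, map_mul, ← mul_assoc, comm_a, mul_assoc, comm_b, ← mul_assoc]
    refine (mem_CV d).2 ⟨?_, ?_⟩
    · calc m * d.emb a45 = m * (d.emb w24 * d.emb a45 * (d.emb w24)⁻¹) := by rw [ha']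
        _ = d.emb w24 * (c' * d.emb a45) * (d.emb w24)⁻¹ := by rw [hm]; group
        _ = d.emb w24 * d.emb a45 * (d.emb w24)⁻¹ * m := by rw [comm_a, hm, hc']; group
        _ = _ := by rw [ha']
    · calc m * d.emb b45 = m * (d.emb w24 * d.emb c45 * (d.emb w24)⁻¹) := by rw [hb']
        _ = d.emb w24 * (c' * d.emb c45) * (d.emb w24)⁻¹ := by rw [hm]; group
        _ = d.emb w24 * d.emb c45 * (d.emb w24)⁻¹ * m := by rw [hc, hm]; group
        _ = _ := by rw [hb']
  obtain ⟨k, j, hkj⟩ := CV_split ψ comm_a comm_b hCVle hmCV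
  -- the part in the four-group is trivial
  have hcomm : ∀ x, d.emb (v45 j) * ψ x = ψ x * d.emb (v45 j) := fun x => by
    fin_cases j
    · simp [v45]
    · exact (comm_a x).symm
    · exact (comm_b x).symm
    · show d.emb c45 * ψ x = ψ x * d.emb c45
      rw [c45, map_mul, mul_assoc, ← comm_b, ← mul_assoc, ← comm_a, mul_assoc]
  set V := d.emb (v45 j) with hV
  have hV2 : V * V = 1 := by rw [hV, ← map_mul, v45_inv, map_one]
  have hm3 : m * m * m = 1 := by
    rw [hm, show d.emb w24 * c' * (d.emb w24)⁻¹ * (d.emb w24 * c' * (d.emb w24)⁻¹) *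
      (d.emb w24 * c' * (d.emb w24)⁻¹) = d.emb w24 * (c' * c' * c') * (d.emb w24)⁻¹ by group, hc', ← map_mul,
      ← map_mul, g3, map_one, mul_one, mul_inv_cancel]
  have hVk : V = ψ (k * k * k)⁻¹ := by
    have e : m * m * m = ψ (k * k * k) * V := by
      calc m * m * m = ψ k * (V * ψ k) * (V * ψ k) * V := by rw [hkj]; group
        _ = ψ k * (ψ k * V) * (ψ k * V) * V := by rw [hcomm k]
        _ = ψ k * ψ k * (V * ψ k) * (V * V) := by group
        _ = ψ k * ψ k * (ψ k * V) * (V * V) := by rw [hcomm k]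
        _ = _ := by rw [hV2, mul_one, ← mul_assoc, map_mul, map_mul]
    rw [hm3] at e
    rw [map_inv]
    exact eq_inv_of_mul_eq_one_right e.symm
  set k0 := (k * k * k)⁻¹ with hk0
  have hcent : ∀ x : ↥(H45 full), k0.1 * x.1 = x.1 * k0.1 := fun x => congrArg Subtype.val
    (hinj (a₁ := k0 * x) (a₂ := x * k0) (by rw [map_mul, map_mul, ← hVk, hcomm]))
  have hk01 : k0 = 1 := by
    refine Subtype.ext (Equiv.ext fun i => ?_)
    have hcyc : ∀ i : Fin 13, 2 ≤ i.val → (i.val < 8 ∨ i = 12 ∧ full = true) →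
        ∀ x, k0.1 (cyc 0 1 i x) = cyc 0 1 i (k0.1 x) := fun i h2 h x =>
      DFunLike.congr_fun (hcent ⟨_, cyc_mem_H45 h2 h⟩) x
    have zero : k0.1 0 = 0 := by
      by_contra h0
      obtain ⟨i, h2, h8, hi⟩ := (by decide +kernel : ∀ y : Fin 13, ∃ i : Fin 13, 2 ≤ i.val ∧ i.val < 8 ∧
        (y ≠ 0 → y ≠ 1 → cyc 0 1 i y = y)) (k0.1 0)
      by_cases h1 : k0.1 0 = 1
      · have e2 := hcyc 2 (by decide) (Or.inl (by decide)) 0
        have e3 := hcyc 3 (by decide) (Or.inl (by decide)) 0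
        rw [cyc_a (by decide) (by decide), h1, cyc_b] at e2 e3
        exact absurd (e2.symm.trans e3) (by decide)
      · have e := hcyc i h2 (Or.inl h8) 0
        rw [hi h0 h1, cyc_a (by decide) (by rintro rfl; simp at h2)] at e
        exact absurd (k0.1.injective e) (by decide)
    have one : k0.1 1 = 1 := by
      have e2 := hcyc 2 (by decide) (Or.inl (by decide)) 0
      rw [cyc_a (by decide) (by decide), zero, cyc_a (by decide) (by decide)] at e2
      exact e2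
    obtain ⟨hk1, hk8⟩ := mem_H45.1 k0.2
    rw [Subgroup.coe_one, Perm.one_apply]
    rcases (by decide : ∀ i : Fin 13, i = 0 ∨ i = 1 ∨ (2 ≤ i.val ∧ i.val < 8) ∨ (8 ≤ i.val ∧ i.val < 12) ∨ i = 12) i
      with h | h | h | h | h
    · rw [h, zero]
    · rw [h, one]
    · have e := hcyc i h.1 (Or.inl h.2) 1
      rwa [cyc_b, one, cyc_b] at e
    · exact hk8 i h.1 h.2
    · rw [h]
      by_cases hfull : full = true
      · have e := hcyc 12 (by decide) (Or.inr ⟨rfl, hfull⟩) 1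
        rwa [cyc_b, one, cyc_b] at e
      · have h12 : k0.1 ∈ altS false := by
          have hf : altS full = altS false := by rw [Bool.eq_false_iff.2 hfull]
          exact hf ▸ hk1
        exact MulAction.mem_stabilizer_iff.1 h12.2
  rw [hk01, map_one] at hVk
  rw [hVk, mul_one] at hkj
  have mem_s : ∀ {x : P13}, Perm.sign x = 1 → (∀ j : Fin 13, 8 ≤ j.val → x j = j) → x ∈ H45 full := by
    intro x he hf
    refine mem_H45.2 ⟨?_, fun j h1 _ => hf j h1⟩
    cases full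
    · exact ⟨Perm.mem_alternatingGroup.2 he, MulAction.mem_stabilizer_iff.2 (hf 12 (by decide))⟩
    · exact Perm.mem_alternatingGroup.2 he
  -- conjugation by the flip is the transposition on the eight points
  let E : Subgroup P13 :=
    { carrier := {x | (Perm.sign x = 1 ∧ ∀ j : Fin 13, 8 ≤ j.val → x j = j) ∧
        ∀ h : x ∈ H45 full, ∀ h' : swap 4 5 * x * swap 4 5 ∈ H45 full,
          d.emb w24 * ψ ⟨x, h⟩ * (d.emb w24)⁻¹ = ψ ⟨_, h'⟩}
      mul_mem' := by
        rintro x y ⟨⟨ex, fx⟩, px⟩ ⟨⟨ey, fy⟩, py⟩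
        refine ⟨⟨by rw [map_mul, ex, ey, mul_one], fun j hj => by rw [Perm.mul_apply, fy j hj, fx j hj]⟩,
          fun h h' => ?_⟩
        have hx := mem_s ex fx
        have hy := mem_s ey fy
        have conj : ∀ {z : P13}, Perm.sign z = 1 → (∀ j : Fin 13, 8 ≤ j.val → z j = j) →
            swap 4 5 * z * swap 4 5 ∈ H45 full := fun {z} ez fz => mem_s
          (by rw [map_mul, map_mul, ez, mul_one, ← map_mul, swap_mul_self, map_one])
          (fun j hj => by
            have e45 := (by decide : ∀ j : Fin 13, 8 ≤ j.val → (swap 4 5 : P13) j = j) j hj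
            rw [Perm.mul_apply, Perm.mul_apply, e45, fz j hj, e45])
        rw [show (⟨x * y, h⟩ : ↥(H45 full)) = ⟨x, hx⟩ * ⟨y, hy⟩ from rfl, map_mul,
          show (⟨_, h'⟩ : ↥(H45 full)) = ⟨_, conj ex fx⟩ * ⟨_, conj ey fy⟩ from
            Subtype.ext (by simp [mul_assoc]), map_mul, ← px hx (conj ex fx), ← py hy (conj ey fy)]
        group
      one_mem' := by
        refine ⟨⟨map_one _, fun _ _ => rfl⟩, fun h h' => ?_⟩
        rw [show (⟨1, h⟩ : ↥(H45 full)) = 1 from rfl, map_one, mul_one, mul_inv_cancel,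
          show (⟨_, h'⟩ : ↥(H45 full)) = 1 from Subtype.ext (by simp), map_one]
      inv_mem' := by
        rintro x ⟨⟨ex, fx⟩, px⟩
        refine ⟨⟨by rw [map_inv, ex, inv_one], fun j hj => by rw [Perm.inv_eq_iff_eq, fx j hj]⟩, fun h h' => ?_⟩
        have hx := mem_s ex fx
        have hx' : swap 4 5 * x * swap 4 5 ∈ H45 full := by
          have := inv_mem h'
          rwa [mul_inv_rev, mul_inv_rev, inv_inv, swap_inv, ← mul_assoc] at this
        rw [show (⟨x⁻¹, h⟩ : ↥(H45 full)) = ⟨x, hx⟩⁻¹ from rfl, map_inv,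
          show (⟨_, h'⟩ : ↥(H45 full)) = ⟨_, hx'⟩⁻¹ from Subtype.ext (by simp [mul_assoc, swap_inv]), map_inv,
          ← px hx hx']
        group }
  have h012 : c012 ∈ E := by
    refine ⟨⟨by decide +kernel, by decide +kernel⟩, fun h h' => ?_⟩
    rw [show (⟨_, h'⟩ : ↥(H45 full)) = ⟨c012, h⟩ from Subtype.ext w6,
      ← comm_c012 hd ψ agree comm_a comm_b ⟨c012, h⟩ rfl w3, mul_inv_cancel_right]
  have hgen : ∀ k, std (tg k) ∈ E := fun k => by
    refine ⟨⟨T8_sign (tg_mem k), tg_mem k⟩, fun h h' => ?_⟩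
    have hc := mem_s (T8_sign (w5 k).2) (w5 k).2
    rw [agree _ h, show (⟨_, h'⟩ : ↥(H45 full)) = ⟨std (w24 * tg k * w24⁻¹), hc⟩ from Subtype.ext (w5 k).1.symm,
      agree _ hc, map_mul, map_mul, map_inv]
  have h8 : ∀ a ∈ T8, std a ∈ E := fun a ha => (T8_closure (K := E.comap std) hgen) ha
  have hE : ∀ x : P13, Perm.sign x = 1 → (∀ j : Fin 13, 8 ≤ j.val → x j = j) → x ∈ E := by
    intro x hx hf
    have ht : Good (0 : Fin 13) 1 (Finset.univ.filter fun i : Fin 13 => 2 ≤ i.val ∧ i.val < 8) :=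
      ⟨by decide, by simp, by simp⟩
    have : x ∈ Cs (0 : Fin 13) 1 (Finset.univ.filter fun i : Fin 13 => 2 ≤ i.val ∧ i.val < 8) :=
      mem_Cs_of_support ht hx fun i hi => by
        have h8 : ¬8 ≤ i.val := fun h => hi (hf i h)
        exact (by decide +kernel : ∀ i : Fin 13, ¬8 ≤ i.val →
          i ∈ insert (0 : Fin 13) (insert 1 (Finset.univ.filter fun i : Fin 13 => 2 ≤ i.val ∧ i.val < 8))) i h8
    refine (closure_le E).2 ?_ this
    rintro _ ⟨i, hi, rfl⟩
    have hi' := (Finset.mem_filter.1 (Finset.mem_coe.1 hi)).2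
    obtain ⟨m0, m1, m2, m8⟩ := mov_facts i hi'.1 (by omega)
    obtain ⟨hs, hf8⟩ := m8 hi'.2
    have : cyc 0 1 i = std (mov i) * c012 * (std (mov i))⁻¹ := by
      rw [c012_eq, cyc, cyc]
      conv_lhs =>
        rw [show swap 0 i = swap (std (mov i) 0) (std (mov i) 2) by rw [m0, m2],
          show (swap 0 1 : P13) = swap (std (mov i) 0) (std (mov i) 1) by rw [m0, m1],
          swap_apply_apply, swap_apply_apply]
      group
    rw [this]
    exact mul_mem (mul_mem (h8 _ hf8) h012) (inv_mem (h8 _ hf8))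
  -- identification
  have hk : ψ k = d.emb w24 * c' * (d.emb w24)⁻¹ := hkj.symm
  have e3 : k.1 * k.1 * k.1 = 1 := congrArg Subtype.val (inv_eq_one.1 hk01 : k * k * k = 1)
  have ene : k.1 ≠ 1 := fun e => by
    have h1 : d.emb w24 * c' * (d.emb w24)⁻¹ = 1 := by rw [← hk, show k = 1 from Subtype.ext e, map_one]
    have h2 : c' = 1 := conj_eq_one_iff.1 h1
    exact p8 (hg.symm.trans (congrArg Subtype.val (hinj (h2.trans (map_one ψ).symm))))
  have hkc : k.1 = c01z := by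
    refine eq_c01z e3 ene (fun i j l a1 a2 a3 a4 a5 a6 a7 a8 a9 => ?_) ?_
    · obtain ⟨hcc, hs, hf, hsw⟩ := cycle_swap45 i j l a1 a2 a3 a4 a5 a6 a7 a8 a9
      have d45 : ∀ x : Fin 13, 2 ≤ x.val → x.val < 8 → 2 ≤ (swap 4 5 x : Fin 13).val ∧ (swap 4 5 x : Fin 13).val < 8 := by
        decide +kernel
      obtain ⟨hcc', hs', hf', hsw'⟩ := cycle_swap45 (swap 4 5 i) (swap 4 5 j) (swap 4 5 l) (d45 i a1 a2).1
        (d45 i a1 a2).2 (d45 j a3 a4).1 (d45 j a3 a4).2 (d45 l a5 a6).1 (d45 l a5 a6).2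
        ((swap 4 5 : P13).injective.ne a7) ((swap 4 5 : P13).injective.ne a8) ((swap 4 5 : P13).injective.ne a9)
      simp only [swap_apply_self] at hsw'
      have h1 := mem_s hs' hf'
      have h2 : swap 4 5 * (swap (swap 4 5 i) (swap 4 5 j) * swap (swap 4 5 j) (swap 4 5 l)) * swap 4 5 ∈
          H45 full := hsw'.symm ▸ mem_s hs hf
      have e := (hE _ hs' hf').2 h1 h2
      have ec : c' * ψ ⟨_, h1⟩ = ψ ⟨_, h1⟩ * c' := by
        rw [hc', ← map_mul, ← map_mul]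
        exact congrArg ψ (Subtype.ext (by rw [Subgroup.coe_mul, Subgroup.coe_mul, hg]; exact hcc'))
      have : k * (⟨_, h2⟩ : ↥(H45 full)) = ⟨_, h2⟩ * k := hinj (by
        rw [map_mul, map_mul, hk, ← e]
        calc d.emb w24 * c' * (d.emb w24)⁻¹ * (d.emb w24 * ψ ⟨_, h1⟩ * (d.emb w24)⁻¹)
            = d.emb w24 * (c' * ψ ⟨_, h1⟩) * (d.emb w24)⁻¹ := by group
          _ = _ := by rw [ec]; group)
      have := congrArg Subtype.val this
      simp only [Subgroup.coe_mul, hsw'] at this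
      exact this
    · have hm012 : c012 ∈ H45 full := mem_s (by decide +kernel) (by decide +kernel)
      have hcomm := comm_c012 hd ψ agree comm_a comm_b ⟨c012, hm012⟩ rfl w3
      have e : (⟨c012, hm012⟩ * k) * (⟨c012, hm012⟩ * k) = (1 : ↥(H45 full)) := hinj (by
        rw [map_mul, map_mul, hk, map_one]
        have ec : ψ ⟨c012, hm012⟩ * c' * (ψ ⟨c012, hm012⟩ * c') = 1 := by
          rw [hc', ← map_mul, ← map_mul, ← map_one ψ]
          exact congrArg ψ (Subtype.ext (by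
            rw [Subgroup.coe_mul, Subgroup.coe_mul, hg]; exact p9))
        calc ψ ⟨c012, hm012⟩ * (d.emb w24 * c' * (d.emb w24)⁻¹) * (ψ ⟨c012, hm012⟩ * (d.emb w24 * c' * (d.emb w24)⁻¹))
            = ψ ⟨c012, hm012⟩ * d.emb w24 * c' * (d.emb w24)⁻¹ * (ψ ⟨c012, hm012⟩ * d.emb w24) * c' * (d.emb w24)⁻¹ := by
              group
          _ = d.emb w24 * (ψ ⟨c012, hm012⟩ * c' * (ψ ⟨c012, hm012⟩ * c')) * (d.emb w24)⁻¹ := by
              rw [hcomm]; group
          _ = 1 := by rw [ec, mul_one, mul_inv_cancel])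
      exact congrArg Subtype.val e
  have hkg : ψ k = c' := congrArg ψ (Subtype.ext (hkc.trans hg.symm) : k = g)
  have cw : c' * d.emb w24 = d.emb w24 * c' := by
    calc c' * d.emb w24 = ψ k * d.emb w24 := by rw [hkg]
      _ = _ := by rw [hk, inv_mul_cancel_right]
  -- it centralises the conjugate four-group
  set P := d.emb (pm0 (swap 2 5)) with hP
  have hPa : P * d.emb a45 * P⁻¹ = d.emb w24 := by rw [hP, ← map_inv, ← map_mul, ← map_mul, w7]
  have hPb : P * d.emb b45 * P⁻¹ = d.emb (pm0 (swap 2 4)) := by rw [hP, ← map_inv, ← map_mul, ← map_mul, w8]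
  have hq : P⁻¹ * c' * P ∈ CV d := by
    refine odd_mem_CV d hd hodd hcls (i := 1) ?_ ?_
    · calc P⁻¹ * c' * P * d.emb a45 = P⁻¹ * (c' * (P * d.emb a45 * P⁻¹)) * P := by group
        _ = P⁻¹ * (P * d.emb a45 * P⁻¹ * c') * P := by rw [hPa, cw]
        _ = _ := by group
    · rw [show 2 * 1 + 1 = 3 from rfl, pow_succ, pow_two,
        show P⁻¹ * c' * P * (P⁻¹ * c' * P) * (P⁻¹ * c' * P) = P⁻¹ * (c' * c' * c') * P by group, hc', ← map_mul,
        ← map_mul, g3, map_one, mul_one, inv_mul_cancel]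
  have c24 : c' * d.emb (pm0 (swap 2 4)) = d.emb (pm0 (swap 2 4)) * c' := by
    rw [← hPb]
    calc c' * (P * d.emb b45 * P⁻¹) = P * (P⁻¹ * c' * P * d.emb b45) * P⁻¹ := by group
      _ = _ := by rw [((mem_CV d).1 hq).2]; group
  let K : Subgroup ↥W0 := (centralizer ({c'} : Set G)).comap d.emb
  have memK : ∀ {x : ↥W0}, x ∈ K ↔ d.emb x * c' = c' * d.emb x := fun {x} => mem_centralizer_singleton_iff
  have h25 : pm0 (swap 2 5) ∈ K := by
    rw [tg_conj.2.2.2.2.1]
    exact mul_mem (mul_mem (memK.2 (comm_b g).symm) (memK.2 c24.symm)) (inv_mem (memK.2 (comm_b g).symm))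
  have := T4_le (K := K) (memK.2 (comm_b g).symm) h25
    (memK.2 (psi_comm ψ agree (std_mem_H45 sb.1 sb.2 full) (by rw [hg]; exact p5)).symm)
    (memK.2 (comm_a g).symm) ha
  exact (memK.1 this).symm

include hd agree comm_a comm_b hinj hCVle hodd hcls in
/-- The field `three`. -/
theorem three_of_psi (g : ↥(H45 full)) (hg : g.1 = c012 ∨ g.1 = c01z) (a : ↥W0)
    (ha : ∀ i : Fin 13, i.val < 4 → std a i = i) : ψ g * d.emb a = d.emb a * ψ g := by
  rcases hg with h | h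
  · exact comm_c012 hd ψ agree comm_a comm_b g h ha
  · exact comm_c01z hd ψ agree comm_a comm_b hinj hCVle hodd hcls g h ha

end Cfsg.Agent.S3298Lib
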